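import Cfsg.Agent.Lib.GW.DGroup.Setup
import Cfsg.Agent.Lib.GW.Perfect
import Cfsg.Agent.Lib.GW.XCount
import Cfsg.Agent.Lib.GW.AltSevenCent
import Cfsg.Agent.Lib.GW.OddLift
import Cfsg.Agent.Lib.GW.CaseCCent

/-!
# A self-centralising D-group in a group with dihedral Sylow 2-subgroups

`G/O(G)` is `PSL(2, q)` or `PGL(2, q)`, given the Gorenstein-Walter theorem.
-/

set_option autoImplicit false
set_option linter.style.haveILetI false
set_option linter.unusedSectionVars false

open Subgroup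

namespace CfsgLib.GW.DGroup

universe u

variable {G : Type u} [Group G] [Finite G]

theorem solvable_of_quot_oddCore (h : Group.IsSolvable (G ⧸ Cfsg.oddCore G)) : Group.IsSolvable G := by
  haveI := h
  haveI : Group.IsSolvable (Cfsg.oddCore G) := CfsgLib.FT.isSolvable_of_odd _ (odd_oddCore G)
  exact solvable_of_ker_le_range (Cfsg.oddCore G).subtype (QuotientGroup.mk' (Cfsg.oddCore G))
    (by simp [Subgroup.range_subtype])

/-- two elements of `A7` centralising the standard involution -/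
theorem exists_altInvol_pair : ∃ p q : alternatingGroup (Fin 7), Commute p altInvol ∧ Commute q altInvol ∧
    p ^ 2 ≠ 1 ∧ q ^ 2 ≠ 1 ∧ ¬ Commute p q :=
  ⟨⟨Equiv.swap 0 2 * Equiv.swap 2 1 * Equiv.swap 1 3 * Equiv.swap 4 5,
      Equiv.Perm.mem_alternatingGroup.2 (by decide +kernel)⟩,
    ⟨Equiv.swap 4 5 * Equiv.swap 5 6, Equiv.Perm.mem_alternatingGroup.2 (by decide +kernel)⟩,
    Subtype.ext (by decide +kernel), Subtype.ext (by decide +kernel),
    fun h => absurd (congrArg Subtype.val h) (by decide +kernel),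
    fun h => absurd (congrArg Subtype.val h) (by decide +kernel),
    fun h => absurd (congrArg Subtype.val h.eq) (by decide +kernel)⟩

namespace Data

variable {H A : Subgroup G} (D : Data H A)
include D

/-- **the case of dihedral Sylow 2-subgroups** -/
theorem hasQuot_of_dihTwo {z : G} (hz : z ∈ A) (hzo : orderOf z = 2) (hX : DihTwo G)
    (hgw : GWBelow.{u} (Nat.card G)) (hns : ¬ Group.IsSolvable G) : HasQuot G := by
  classical
  haveI : Fact (Nat.Prime 2) := ⟨Nat.prime_two⟩
  set K := Cfsg.oddCore G with hKdef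
  have hKo : Odd (Nat.card K) := odd_oddCore G
  set π := QuotientGroup.mk' K with hπ
  have hzX : orderOf (π z) = 2 := orderOf_mk_invol hKo hzo
  have hlift : ∀ x, Commute x (π z) → ∃ h ∈ H, π h = x := fun x hx => by
    obtain ⟨m, hm, hmz⟩ := exists_comm_lift hKo hzo hx
    exact ⟨m, D.cent z hz hzo ▸ mem_centralizer_singleton_iff.2 hmz.eq, hm⟩
  have hsq : ∀ h : G, h ^ 2 = 1 → π h ^ 2 = 1 := fun h e => by rw [← map_pow, e, map_one]
  rcases structure_quotient hX hgw with h2 | h4 | ⟨M, hMn, hMs, hMnc, hMd, hC, hM⟩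
  · exfalso
    haveI := h2.isNilpotent
    exact hns (solvable_of_quot_oddCore (inferInstance : Group.IsSolvable (G ⧸ Cfsg.oddCore G)))
  · exact absurd (solvable_of_quot_oddCore (solvable_of_isFourType h4)) hns
  haveI := hMn
  have hXq : DihTwo (G ⧸ K) := dihTwo_quotient hX K (CfsgLib.Coprime.pPrimeCore_not_dvd Nat.prime_two)
  rcases hM with ⟨F, iF, jF, hodd, h3, ⟨e⟩⟩ | ⟨⟨e⟩⟩
  swap
  · -- the alternating group of degree seven
    exfalso
    have htop := eq_top_of_alt7 hXq M e hC
    set E : (G ⧸ K) ≃* alternatingGroup (Fin 7) :=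
      (Subgroup.topEquiv.symm.trans (MulEquiv.subgroupCongr htop.symm)).trans e
    obtain ⟨φ, hφ⟩ := exists_aut_altInvol (t := E (π z)) (by rw [MulEquiv.orderOf_eq, hzX])
    set E' := E.trans φ
    obtain ⟨p, q, hp, hq, hp2, hq2, hpq⟩ := exists_altInvol_pair
    have key : ∀ r : alternatingGroup (Fin 7), Commute r altInvol → r ^ 2 ≠ 1 →
        ∃ h ∈ H, h ^ 2 ≠ 1 ∧ E' (π h) = r := by
      intro r hr hr2
      obtain ⟨h, hh, he⟩ := hlift (E'.symm r) (E'.injective (by
        rw [map_mul, map_mul, E'.apply_symm_apply]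
        show r * φ (E (π z)) = φ (E (π z)) * r
        rw [hφ]
        exact hr.eq))
      refine ⟨h, hh, fun e2 => hr2 ?_, by rw [he, E'.apply_symm_apply]⟩
      rw [← E'.apply_symm_apply r, ← he, ← map_pow, hsq h e2, map_one]
    obtain ⟨h, hh, hh2, rfl⟩ := key p hp hp2
    obtain ⟨k, hk, hk2, rfl⟩ := key q hq hq2
    exact hpq (((D.commute_of_sq_ne_one hh hk hh2 hk2).map π).map E'.toMonoidHom)
  have h2 : (2 : F) ≠ 0 := CfsgLib.Perm.Dickson.two_ne_zero_of_odd (F := F) (by rwa [Nat.card_eq_fintype_card])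
  have hdiag2 : ∀ {x : G ⧸ K}, orderOf x = 2 → x ∈ diagPart M e := fun hx =>
    two_mem_diagPart M e hXq hC h2 (k := 1) (by rw [hx, pow_one])
  -- the centraliser of the image of `z` lies in the diagonal part
  have hcent : ∀ x, Commute x (π z) → x ∈ diagPart M e := by
    intro x hx
    obtain ⟨h, hh, rfl⟩ := hlift x hx
    by_cases hhA : h ∈ A
    · obtain ⟨b, hb, hbA⟩ := D.out
      have hfb : fieldOn M e (π b) = 1 := MonoidHom.mem_ker.1 (hdiag2 (orderOf_mk_invol hKo (D.invol b hb hbA)))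
      have h1 := congrArg (fun y => fieldOn M e (π y)) (D.inv b hb hbA h hhA)
      simp only [map_mul, map_inv, hfb, inv_one, mul_one, one_mul] at h1
      refine MonoidHom.mem_ker.2 (orderOf_eq_one_iff.1 (Nat.eq_one_of_dvd_coprimes
        (Nat.prime_two.coprime_iff_not_dvd.2 (field_odd M e hXq hC h2))
        (orderOf_dvd_of_pow_eq_one (by rw [sq]; exact mul_eq_one_iff_eq_inv.2 h1)) ?_))
      rw [diagPart, Subgroup.index_ker]
      exact Subgroup.orderOf_dvd_natCard _ ⟨π h, rfl⟩
    · exact hdiag2 (orderOf_mk_invol hKo (D.invol h hh hhA))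
  -- the diagonal part is everything
  have hdiag : diagPart M e = ⊤ := by
    by_cases hzM : π z ∈ M
    · refine (Subgroup.eq_top_iff' _).2 fun x => ?_
      obtain ⟨c, hc, m, hm, rfl⟩ := cent_sup_eq_top M e hzX hzM x
      exact mul_mem (le_diagPart M e hm) (hcent c (mem_centralizer_singleton_iff.1 hc))
    obtain ⟨P, hP⟩ := (IsPGroup.of_card (n := 1) (by rw [Nat.card_zpowers, hzX, pow_one]) :
      IsPGroup 2 (zpowers (π z))).exists_le_sylow
    have hPD : (P : Subgroup (G ⧸ K)) ≤ diagPart M e := fun x hx => by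
      obtain ⟨k, hk⟩ := IsPGroup.iff_orderOf.1 P.2 ⟨x, hx⟩
      rw [Subgroup.orderOf_mk] at hk
      exact two_mem_diagPart M e hXq hC h2 hk
    have hP8 : 8 ∣ Nat.card (P : Subgroup (G ⧸ K)) := by
      refine P.pow_dvd_card_of_pow_dvd_card (n := 3) ?_
      rw [← M.card_mul_index, (index_cases M e hC h2).resolve_left fun h => hzM ?_, ← mul_assoc]
      · refine Dvd.dvd.mul_right (show 8 ∣ Nat.card M * 2 from ?_) _
        obtain ⟨R⟩ : Nonempty (Sylow 2 M) := inferInstance
        obtain ⟨n, hn, ⟨f⟩⟩ := hMd R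
        obtain ⟨k, hk⟩ := R.2.exists_card_eq
        have h1 : 2 * n = 2 ^ k := by rw [← hk, Nat.card_congr f.toEquiv, DihedralGroup.nat_card]
        have hk2 : 2 ≤ k := by
          by_contra hlt
          interval_cases k <;> omega
        have h3 : 4 ∣ Nat.card M := ((pow_dvd_pow 2 hk2).trans (dvd_of_eq hk.symm)).trans (card_subgroup_dvd_card _)
        exact Nat.mul_dvd_mul_right h3 2
      · have h1 := Subgroup.relIndex_mul_index (le_diagPart M e)
        rw [h] at h1
        exact Subgroup.relIndex_eq_one.1 ((Nat.mul_eq_right Subgroup.FiniteIndex.index_ne_zero).1 h1) (hdiag2 hzX)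
    have hN : normalizer ((P : Subgroup (G ⧸ K)) : Set (G ⧸ K)) ≤ diagPart M e := by
      intro y hy
      obtain ⟨k, c, hc, hkc⟩ := Nat.exists_eq_two_pow_mul_odd (orderOf_pos y).ne'
      have hy' : y ^ 2 ^ k ∈ diagPart M e := by
        set w := y ^ 2 ^ k with hwdef
        have hw : w ^ c = 1 := by rw [hwdef, ← pow_mul, ← hkc, pow_orderOf_eq_one]
        have hwN : w ∈ normalizer ((P : Subgroup (G ⧸ K)) : Set (G ⧸ K)) := pow_mem hy _
        set σ := (P : Subgroup (G ⧸ K)).normalizerMonoidHom ⟨w, hwN⟩ with hσ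
        have hσc : σ ^ c = 1 := by
          rw [hσ, ← map_pow, show (⟨w, hwN⟩ : normalizer ((P : Subgroup (G ⧸ K)) : Set (G ⧸ K))) ^ c = 1 from
            Subtype.ext hw, map_one]
        obtain ⟨n, hn, ⟨f⟩⟩ := hXq P
        haveI : NeZero n := ⟨by omega⟩
        rcases CfsgLib.Invol.aut_eq_one_or_isKleinFour P.2 f.toMonoidHom f.injective σ hc hσc with h1 | h1
        · refine hcent w ?_
          have h3 : w * π z * w⁻¹ = π z := congrArg (fun τ : MulAut (P : Subgroup (G ⧸ K)) =>
            ((τ ⟨π z, hP (mem_zpowers _)⟩ : (P : Subgroup (G ⧸ K))) : G ⧸ K)) h1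
          exact mul_inv_eq_iff_eq_mul.1 h3
        · have h3 := h1.card_four ▸ hP8
          norm_num at h3
      refine MonoidHom.mem_ker.2 (orderOf_eq_one_iff.1 (Nat.eq_one_of_dvd_coprimes
        ((Nat.prime_two.coprime_iff_not_dvd.2 (field_odd M e hXq hC h2)).pow_left k)
        (orderOf_dvd_of_pow_eq_one (by rw [← map_pow]; exact MonoidHom.mem_ker.1 hy')) ?_))
      rw [diagPart, Subgroup.index_ker]
      exact Subgroup.orderOf_dvd_natCard _ ⟨y, rfl⟩
    refine (sup_of_le_right ?_).symm.trans (Sylow.normalizer_sup_eq_top' P hPD)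
    exact hN
  refine ⟨K, inferInstance, Or.inl hKo, F, iF, jF, h3, ?_⟩
  rcases index_cases M e hC h2 with h | h <;> rw [hdiag, Subgroup.index_top] at h
  · exact Or.inl ⟨(Subgroup.topEquiv.symm.trans (MulEquiv.subgroupCongr (Subgroup.index_eq_one.1 h).symm)).trans e⟩
  · have hbij := toG_bijective M e hC h2 (by rw [h, hdiag, Subgroup.index_top])
    exact Or.inr ⟨(Subgroup.topEquiv.symm.trans (MulEquiv.subgroupCongr hdiag.symm)).trans
      (MulEquiv.ofBijective (toG M e) hbij)⟩

end Data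

end CfsgLib.GW.DGroup
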