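import Cfsg.Agent.Lib.GW.DGroup.Setup
import Cfsg.Agent.Lib.Invol.AbelianCent.Main
import Cfsg.Agent.Lib.Classical.SL2Sylow
import Cfsg.Agent.Lib.FT.NoMinSimple

/-!
# A self-centralising D-group of exponent two

`H` is then an abelian Sylow 2-subgroup, all involution centralisers are abelian and `G ≅ PSL(2, 2^n)`.
-/

set_option autoImplicit false
set_option linter.style.haveILetI false
set_option linter.unusedSectionVars false

open Subgroup

namespace CfsgLib.GW.DGroup

universe u

variable {G : Type u} [Group G] [Finite G]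

/-- a group with an odd quotient over a 2-subgroup is solvable -/
theorem isSolvable_of_pGroup_index (T : Subgroup G) [T.Normal] (hT : IsPGroup 2 T) (hodd : Odd T.index) :
    Group.IsSolvable G := by
  haveI : Fact (Nat.Prime 2) := ⟨Nat.prime_two⟩
  haveI : Group.IsSolvable T := by
    haveI := hT.isNilpotent
    infer_instance
  haveI : Group.IsSolvable (G ⧸ T) := CfsgLib.FT.isSolvable_of_odd _ (by rwa [← index_eq_card])
  exact solvable_of_ker_le_range T.subtype (QuotientGroup.mk' T) (by simp [Subgroup.range_subtype])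

/-- centralisers of involutions are abelian when those in a Sylow subgroup are -/
theorem comm_of_sylow (T : Sylow 2 G)
    (h : ∀ t ∈ (T : Subgroup G), orderOf t = 2 → ∀ x y : G, Commute x t → Commute y t → Commute x y) (t : G)
    (ht : orderOf t = 2) : IsMulCommutative (centralizer ({t} : Set G)) := by
  haveI : Fact (Nat.Prime 2) := ⟨Nat.prime_two⟩
  obtain ⟨R, hR⟩ := (IsPGroup.of_card (n := 1) (by rw [Nat.card_zpowers, ht, pow_one]) :
    IsPGroup 2 (zpowers t)).exists_le_sylow
  obtain ⟨g, hg⟩ := MulAction.exists_smul_eq G R T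
  have hmem : g * t * g⁻¹ ∈ (T : Subgroup G) := by
    rw [← hg, Sylow.coe_subgroup_smul]
    exact ⟨t, hR (mem_zpowers t), rfl⟩
  refine ⟨⟨fun x y => Subtype.ext ?_⟩⟩
  refine (MulAut.conj g).injective ?_
  rw [Subgroup.coe_mul, Subgroup.coe_mul, map_mul, map_mul]
  exact (h _ hmem (by rw [← MulAut.conj_apply, MulEquiv.orderOf_eq, ht]) _ _
    ((show Commute (x : G) t from mem_centralizer_singleton_iff.1 x.2).map (MulAut.conj g).toMonoidHom)
    ((show Commute (y : G) t from mem_centralizer_singleton_iff.1 y.2).map (MulAut.conj g).toMonoidHom)).eq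

theorem three_lt_card {F : Type} [Field F] [Fintype F] [CharP F 2]
    (h : 4 ∣ Nat.card (Matrix.SpecialLinearGroup (Fin 2) F)) : 3 < Fintype.card F := by
  obtain ⟨n, -, hn⟩ := FiniteField.card F 2
  by_contra hle
  have h2 := Fintype.one_lt_card (α := F)
  have h3 : Fintype.card F = 2 := by
    have : 2 ∣ Fintype.card F := hn ▸ dvd_pow_self 2 n.ne_zero
    omega
  rw [CfsgLib.Classical.card_sl2, h3] at h
  norm_num at h

/-- `SL(2, F)` is `PSL(2, F)` in characteristic two -/
noncomputable def slEquivPsl (F : Type) [Field F] [Fintype F] [CharP F 2] :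
    Matrix.SpecialLinearGroup (Fin 2) F ≃* Matrix.ProjectiveSpecialLinearGroup (Fin 2) F :=
  ((QuotientGroup.quotientMulEquivOfEq
    (CfsgLib.Lie.ShortPres.center_eq_bot_of_two (CharTwo.two_eq_zero (R := F)))).trans QuotientGroup.quotientBot).symm

/-- **the case of exponent two** -/
theorem hasQuot_of_exponent_two {H : Subgroup G} (hexp : ∀ x ∈ H, x ^ 2 = 1)
    (hC : ∀ j ∈ H, orderOf j = 2 → centralizer ({j} : Set G) = H) (h4 : 4 ∣ Nat.card H)
    (hns : ¬ Group.IsSolvable G) : HasQuot G := by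
  haveI : Fact (Nat.Prime 2) := ⟨Nat.prime_two⟩
  have hord : ∀ x ∈ H, x ≠ 1 → orderOf x = 2 := fun x hx h => orderOf_eq_prime (hexp x hx) h
  have hself : ∀ y ∈ H, y⁻¹ = y := fun y hy => inv_eq_of_mul_eq_one_right (by rw [← sq, hexp y hy])
  have hcom : ∀ x ∈ H, ∀ y ∈ H, Commute x y := fun x hx y hy => by
    have h1 := hself _ (mul_mem hx hy)
    rw [_root_.mul_inv_rev, hself x hx, hself y hy] at h1
    exact h1.symm
  obtain ⟨j, hj⟩ : ∃ j : H, orderOf j = 2 := exists_prime_orderOf_dvd_card' 2 (dvd_trans (by norm_num) h4)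
  rw [← Subgroup.orderOf_coe] at hj
  have hHp : IsPGroup 2 H := fun x => ⟨1, Subtype.ext (by simpa using hexp x x.2)⟩
  obtain ⟨T, hT⟩ := hHp.exists_le_sylow
  have hTH : (T : Subgroup G) = H := by
    refine le_antisymm ?_ hT
    haveI : Nontrivial (T : Subgroup G) := ⟨⟨⟨j, hT j.2⟩, 1, fun e => Invol.invol_ne_one hj
      (congrArg Subtype.val e)⟩⟩
    haveI := T.2.center_nontrivial
    obtain ⟨k, hk⟩ := (T.2.to_subgroup (center (T : Subgroup G))).exists_card_eq
    obtain ⟨c, hc⟩ : ∃ c : center (T : Subgroup G), orderOf c = 2 := exists_prime_orderOf_dvd_card' 2 (by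
      rw [hk]
      refine dvd_pow_self 2 fun h => ?_
      rw [h, pow_zero] at hk
      exact absurd (Finite.one_lt_card (α := center (T : Subgroup G))) (by omega))
    rw [← Subgroup.orderOf_coe, ← Subgroup.orderOf_coe] at hc
    have hcc : ∀ x ∈ (T : Subgroup G), Commute x ((c : (T : Subgroup G)) : G) := fun x hx =>
      congrArg Subtype.val (mem_center_iff.1 c.2 ⟨x, hx⟩)
    have hcH : ((c : (T : Subgroup G)) : G) ∈ H :=
      hC j j.2 hj ▸ mem_centralizer_singleton_iff.2 (hcc _ (hT j.2)).symm.eq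
    intro x hx
    rw [← hC _ hcH hc]
    exact mem_centralizer_singleton_iff.2 (hcc x hx).eq
  have hdata : CfsgLib.AbCent.Data T := by
    refine ⟨fun hcyc => ?_, fun hn => hns ?_, comm_of_sylow T fun t ht hto x y hx hy => ?_⟩
    · haveI := hcyc
      have h1 := Monoid.exponent_dvd_of_forall_pow_eq_one (G := (T : Subgroup G)) (n := 2)
        fun g => Subtype.ext (hexp g (hTH.le g.2))
      rw [IsCyclic.exponent_eq_card, hTH] at h1
      have := Nat.le_of_dvd two_pos (h4.trans h1)
      omega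
    · haveI := hn
      exact isSolvable_of_pGroup_index (T : Subgroup G) T.2
        (Nat.not_even_iff_odd.1 fun h => T.not_dvd_index h.two_dvd)
    · refine hcom x ?_ y ?_ <;> rw [← hC t (hTH.le ht) hto] <;> exact mem_centralizer_singleton_iff.2 (by assumption)
  obtain ⟨-, F, _, _, _, φ, hφ, hker, hodd⟩ := CfsgLib.AbCent.target _ G rfl T hdata
  have hbot : φ.ker = ⊥ := by
    refine (Subgroup.eq_bot_iff_forall _).2 fun g hg => ?_
    have hgH : g ∈ H :=
      hC j j.2 hj ▸ mem_centralizer_singleton_iff.2 (mem_center_iff.1 (hker hg) _).symm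
    exact CfsgLib.AbCent.eq_one_of_sq (hodd.of_dvd_nat (Subgroup.orderOf_dvd_natCard _ hg)) (hexp g hgH)
  let e : G ≃* Matrix.SpecialLinearGroup (Fin 2) F :=
    MulEquiv.ofBijective φ ⟨(MonoidHom.ker_eq_bot_iff φ).1 hbot, hφ⟩
  refine ⟨⊥, inferInstance, Or.inl (by rw [card_bot]; exact odd_one), F, inferInstance, inferInstance,
    three_lt_card (Nat.card_congr e.toEquiv ▸ h4.trans (card_subgroup_dvd_card H)),
    Or.inl ⟨QuotientGroup.quotientBot.trans (e.trans (slEquivPsl F))⟩⟩

end CfsgLib.GW.DGroup
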