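import Cfsg.Agent.Lib.GW.DGroup.Dihedral
import Cfsg.Agent.Lib.GW.TorusCent
import Cfsg.Agent.Lib.Invol.QDFusion
import Cfsg.Agent.Lib.Invol.TransferOrder
import Cfsg.Agent.Lib.Invol.BrauerSuzuki
import Cfsg.Agent.Lib.LocalStructure.Basic
import Cfsg.Agent.Lib.PGroup.MaxClassRecog

/-!
# A self-centralising D-group and quasidihedral Sylow 2-subgroups

The central involution `c` of the Sylow subgroup has a non-solvable centraliser by transfer and Glauberman's theorem,
but an outer involution of `C(c)/⟨c⟩` then centralises no non-trivial element of odd order.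
-/

set_option autoImplicit false
set_option linter.style.haveILetI false
set_option linter.unusedSectionVars false

open Subgroup

namespace CfsgLib.GW.DGroup

universe u

variable {G : Type u} [Group G] [Finite G]

/-- modulo the centre, the centraliser of a central involution of a quasidihedral Sylow subgroup has dihedral ones -/
theorem dihTwo_cent_quotient {T : Sylow 2 G} {h : ℤ} {a b : (T : Subgroup G)} (Q : Invol.QDFrame h a b) {n : ℕ}
    (hn : 3 ≤ n) (hT : Nat.card (T : Subgroup G) = 2 ^ n) (h4 : (commutator (T : Subgroup G)).index = 4)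
    {C : Subgroup G} (hTC : (T : Subgroup G) ≤ C) (Zc : Subgroup C) [Zc.Normal]
    (hZc : ∀ x : C, x ∈ Zc ↔ (x : G) = 1 ∨ (x : G) = Invol.rotG a (2 * h)) : DihTwo (C ⧸ Zc) := by
  haveI : Fact (Nat.Prime 2) := ⟨Nat.prime_two⟩
  set π := QuotientGroup.mk' Zc
  set TW := (T.subtype hTC).mapSurjective (QuotientGroup.mk'_surjective Zc)
  have hTW : (TW : Subgroup (C ⧸ Zc)) = (((T : Subgroup G).subgroupOf C).map π) := rfl
  let τ : (T : Subgroup G) →* (TW : Subgroup (C ⧸ Zc)) := (π.comp (Subgroup.inclusion hTC)).codRestrict _ fun x =>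
    hTW.ge ⟨Subgroup.inclusion hTC x, mem_subgroupOf.2 x.2, rfl⟩
  have hτs : Function.Surjective τ := fun y => by
    obtain ⟨x, hx, hxy⟩ := hTW.le y.2
    exact ⟨⟨x, mem_subgroupOf.1 hx⟩, Subtype.ext hxy⟩
  have hker : τ.ker = center (T : Subgroup G) := by
    rw [Q.center_eq]
    ext x
    have h1 : x ∈ τ.ker ↔ Subgroup.inclusion hTC x ∈ Zc :=
      ⟨fun hx => (QuotientGroup.eq_one_iff _).1 (congrArg Subtype.val (MonoidHom.mem_ker.1 hx)),
        fun hx => MonoidHom.mem_ker.2 (Subtype.ext ((QuotientGroup.eq_one_iff _).2 hx))⟩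
    rw [h1, hZc, mem_zpowers_iff]
    constructor
    · rintro (e | e)
      · exact ⟨0, Subtype.ext (by rw [zpow_zero]; exact e.symm)⟩
      · exact ⟨1, Subtype.ext (by rw [zpow_one]; exact e.symm)⟩
    · rintro ⟨i, rfl⟩
      rw [← zpow_mod_orderOf, Q.orderOf_center]
      rcases Int.emod_two_eq_zero_or_one i with e | e <;> push_cast <;> rw [e]
      · exact Or.inl (by simp)
      · exact Or.inr (by rw [zpow_one]; rfl)
  obtain ⟨f⟩ := CfsgLib.PGroup.central_quotient_dihedral hn hT h4
  exact dihTwo_of_sylow TW (n := 2 ^ (n - 2))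
    (by calc 2 = 2 ^ 1 := rfl
          _ ≤ 2 ^ (n - 2) := Nat.pow_le_pow_right two_pos (by omega))
    ((((QuotientGroup.quotientMulEquivOfEq hker).symm.trans
      (QuotientGroup.quotientKerEquivOfSurjective τ hτs))).symm.trans f)

namespace Data

variable {H A : Subgroup G} (D : Data H A)
include D

/-- **quasidihedral Sylow 2-subgroups do not occur** -/
theorem false_of_quasiDihedral {z : G} (hz : z ∈ A) (hzo : orderOf z = 2)
    (huniq : ∀ u ∈ A, orderOf u = 2 → u = z) (h4H : ∀ Q : Subgroup G, IsPGroup 2 Q → Q ≤ H → Nat.card Q ≤ 4)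
    (T : Sylow 2 G) (hzT : z ∈ (T : Subgroup G)) (hqd : Cfsg.IsQuasiDihedral (T : Subgroup G))
    (hT4 : (commutator (T : Subgroup G)).index = 4) (hgw : GWBelow.{u} (Nat.card G)) (hns : ¬ Group.IsSolvable G) :
    False := by
  classical
  haveI : Fact (Nat.Prime 2) := ⟨Nat.prime_two⟩
  obtain ⟨k, a, b, hk, hcard, Q⟩ := Invol.exists_qdFrame hqd
  set h : ℤ := 2 ^ (k - 2)
  set c := Invol.rotG a (2 * h) with hc
  have hco : orderOf c = 2 := Q.orderOf_centerG
  have hcT : c ∈ (T : Subgroup G) := Invol.rotG_mem a _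
  have hbig : 4 < Nat.card (T : Subgroup G) := by
    rw [hcard]
    calc 4 < 2 ^ 3 := by norm_num
      _ ≤ 2 ^ (k + 1) := Nat.pow_le_pow_right two_pos (by omega)
  have hcc : ∀ x ∈ (T : Subgroup G), Commute x c := fun x hx => Q.commute_center hx
  have hTC : (T : Subgroup G) ≤ centralizer ({c} : Set G) := fun x hx =>
    mem_centralizer_singleton_iff.2 (hcc x hx).eq
  have hzc : ∀ g : G, g * z * g⁻¹ ≠ c := by
    intro g hg
    have hle : (T : Subgroup G).map (MulAut.conj g⁻¹).toMonoidHom ≤ H := by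
      rw [← D.cent z hz hzo]
      rintro _ ⟨x, hx, rfl⟩
      refine mem_centralizer_singleton_iff.2 ?_
      have := ((hcc x hx).map (MulAut.conj g⁻¹).toMonoidHom).eq
      rw [← hg] at this
      simpa [mul_assoc] using this
    have h1 := h4H _ (T.2.map _) hle
    rw [← Nat.card_congr (equivMapOfInjective _ _ (MulAut.conj g⁻¹).injective).toEquiv] at h1
    omega
  have hinvol : ∀ x ∈ (T : Subgroup G), orderOf x = 2 → x = c ∨ IsConj x z := by
    intro x hx hxo
    obtain ⟨i, hi, hzi⟩ := (Q.invol_casesG hzT hzo).resolve_left fun e => hzc 1 (by simpa using e)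
    rcases Q.invol_casesG hx hxo with e | ⟨j, hj, rfl⟩
    · exact Or.inl e
    · exact Or.inr (hzi ▸ Q.isConj_refG (dvd_sub hi hj))
  have hcH : c ∈ H := D.cent z hz hzo ▸ mem_centralizer_singleton_iff.2 (hcc z hzT).symm.eq
  have hcA : c ∉ A := fun h' => hzc 1 (by rw [huniq c h' hco]; group)
  -- transfer: a subgroup of index two without `z`
  set Ma := (zpowers a).map (T : Subgroup G).subtype with hMa
  have hMaT : Ma ≤ (T : Subgroup G) := map_subtype_le _
  have hidx : Ma.relIndex (T : Subgroup G) = 2 := by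
    obtain ⟨N, -, hF⟩ := Q.frame
    rw [relIndex, hMa]
    exact (congrArg Subgroup.index
      (comap_map_eq_self_of_injective (T : Subgroup G).subtype_injective _)).trans hF.index_two
  have hnoconj : ∀ g : G, g * z * g⁻¹ ∉ Ma := by
    rintro g ⟨⟨x, hxT⟩, hx, hxg⟩
    obtain ⟨i, hi⟩ := mem_zpowers_iff.1 hx
    have hxo : orderOf x = 2 := by
      have e : x = g * z * g⁻¹ := hxg
      rw [e, ← MulAut.conj_apply, MulEquiv.orderOf_eq, hzo]
    rcases Q.invol_casesG hxT hxo with e | ⟨j, -, e⟩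
    · exact hzc g (hxg.symm.trans e)
    · exact Q.rotG_ne_refG i j (by
        rw [← e]
        show ((a ^ i : (T : Subgroup G)) : G) = x
        rw [hi])
  obtain ⟨G0, hG0, hG0z⟩ := Invol.exists_index_two_notMem T Ma hMaT hidx (n := 1)
    (fun y hy hyM => by
      rw [Nat.sub_self, pow_zero]
      exact lt_of_le_of_ne (orderOf_pos y) fun e => hyM (orderOf_eq_one_iff.1 e.symm ▸ one_mem _))
    z (hzo.trans (pow_one 2).symm) hnoconj
  haveI := Subgroup.normal_of_index_eq_two hG0
  have hcG0 : c ∈ G0 := by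
    rw [hc, ← Invol.QDFrame.sq_quarter]
    exact Subgroup.mul_self_mem_of_index_two hG0 _
  -- `c` is central modulo the odd core of `G0`
  obtain ⟨R0, hR0⟩ := CfsgLib.LS.sylow_inf_normal T G0
  set c0 : G0 := ⟨c, hcG0⟩
  have hc0o : orderOf c0 = 2 := by rw [Subgroup.orderOf_mk, hco]
  have hR0u : ∀ x ∈ (R0 : Subgroup G0), orderOf x = 2 → x = c0 := by
    intro x hx hxo
    have hxT : (x : G) ∈ (T : Subgroup G) ⊓ G0 := hR0 ▸ mem_map_of_mem G0.subtype hx
    refine Subtype.ext ((hinvol _ hxT.1 (by rw [Subgroup.orderOf_coe, hxo])).resolve_right fun hcj => hG0z ?_)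
    obtain ⟨g, hg⟩ := isConj_iff.1 hcj
    exact hg ▸ Normal.conj_mem inferInstance _ hxT.2 g
  have hzc0 := Invol.zcentral_of_unique_invol R0 hc0o hR0u
  set C := centralizer ({c} : Set G) with hCdef
  have hCns : ¬ Group.IsSolvable C := by
    intro hs
    haveI := hs
    refine hns ?_
    haveI : Group.IsSolvable (G0 ⧸ Cfsg.oddCore G0) := by
      set C0 := centralizer ({c0} : Set G0)
      haveI : Group.IsSolvable C0 := by
        refine solvable_of_solvable_injective (f := ((G0.subtype.comp C0.subtype).codRestrict C fun x => ?_))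
          fun x y e => ?_
        · exact mem_centralizer_singleton_iff.2 (congrArg Subtype.val (mem_centralizer_singleton_iff.1 x.2))
        · exact Subtype.ext (Subtype.ext (congrArg Subtype.val e :))
      refine solvable_of_surjective (f := (QuotientGroup.mk' (Cfsg.oddCore G0)).comp C0.subtype) fun q => ?_
      obtain ⟨g, rfl⟩ := QuotientGroup.mk'_surjective (Cfsg.oddCore G0) q
      have hcom : Commute (QuotientGroup.mk' (Cfsg.oddCore G0) g) (QuotientGroup.mk' (Cfsg.oddCore G0) c0) := by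
        have h1 : QuotientGroup.mk' (Cfsg.oddCore G0) (c0 * g * c0⁻¹ * g⁻¹) = 1 :=
          (QuotientGroup.eq_one_iff _).2 (hzc0 g)
        rw [map_mul, map_mul, map_mul, map_inv, map_inv, mul_inv_eq_one, mul_inv_eq_iff_eq_mul] at h1
        exact h1.symm
      obtain ⟨m, hm, hmc⟩ := exists_comm_lift (odd_oddCore G0) hc0o hcom
      exact ⟨⟨m, mem_centralizer_singleton_iff.2 hmc.eq⟩, hm⟩
    haveI : Group.IsSolvable G0 := solvable_of_quot_oddCore inferInstance
    haveI : Group.IsSolvable (G ⧸ G0) := by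
      haveI := (IsPGroup.of_card (p := 2) (n := 1) (G := G ⧸ G0)
        (by rw [← index_eq_card, hG0, pow_one])).isNilpotent
      infer_instance
    exact solvable_of_ker_le_range G0.subtype (QuotientGroup.mk' G0) (by simp [Subgroup.range_subtype])
  -- modulo `c`
  set cC : C := ⟨c, mem_centralizer_singleton_iff.2 rfl⟩
  set Zc : Subgroup C := zpowers cC
  have hZcc : Zc ≤ center C := zpowers_le.2 (mem_center_iff.2 fun g => Subtype.ext
    (mem_centralizer_singleton_iff.1 g.2))
  haveI : Zc.Normal := ⟨fun x hx g => by rwa [mem_center_iff.1 (hZcc hx) g, mul_inv_cancel_right]⟩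
  have hcC : orderOf cC = 2 := by rw [Subgroup.orderOf_mk, hco]
  have hZmem : ∀ x : C, x ∈ Zc ↔ (x : G) = 1 ∨ (x : G) = c := by
    refine fun x => ⟨fun hx => ?_, ?_⟩
    · obtain ⟨i, rfl⟩ := mem_zpowers_iff.1 hx
      rw [← zpow_mod_orderOf, hcC]
      rcases Int.emod_two_eq_zero_or_one i with e | e <;> push_cast <;> rw [e]
      · exact Or.inl (by simp)
      · exact Or.inr (by rw [zpow_one])
    · rintro (e | e)
      · rw [show x = 1 from Subtype.ext e]; exact one_mem _
      · rw [show x = cC from Subtype.ext e]; exact mem_zpowers _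
  have hW : DihTwo (C ⧸ Zc) := dihTwo_cent_quotient Q (by omega) hcard hT4 hTC Zc hZmem
  set zC : C := ⟨z, hTC hzT⟩
  have hzW : orderOf (QuotientGroup.mk' Zc zC) = 2 := by
    refine orderOf_eq_prime ?_ fun e => ?_
    · rw [← map_pow, show zC ^ 2 = 1 from Subtype.ext (show z ^ 2 = 1 by rw [← hzo, pow_orderOf_eq_one]), map_one]
    · rcases (hZmem zC).1 ((QuotientGroup.eq_one_iff _).1 e) with e' | e'
      · exact Invol.invol_ne_one hzo e'
      · exact hzc 1 (by simpa using e')
  have hexp : ∀ x, Commute x (QuotientGroup.mk' Zc zC) → x ^ 4 = 1 := by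
    intro x hx
    obtain ⟨g, rfl⟩ := QuotientGroup.mk'_surjective Zc x
    have hgc : Commute (g : G) c := mem_centralizer_singleton_iff.1 g.2
    have h1 : g * zC * g⁻¹ * zC⁻¹ ∈ Zc := by
      refine (QuotientGroup.eq_one_iff _).1 ?_
      show QuotientGroup.mk' Zc _ = 1
      rw [map_mul, map_mul, map_mul, map_inv, map_inv, hx.eq, mul_inv_cancel_right, mul_inv_cancel]
    have h2 : ((g : G) ^ 2) ^ 2 = 1 := by
      have h3 : Commute ((g : G) ^ 2) z := by
        rcases (hZmem _).1 h1 with e | e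
        · exact (show Commute (g : G) z from mul_inv_eq_iff_eq_mul.1 (mul_inv_eq_one.1 e)).pow_left 2
        · have e1 : (g : G) * z * (g : G)⁻¹ = c * z := mul_inv_eq_iff_eq_mul.1 e
          refine mul_inv_eq_iff_eq_mul.1 ?_
          calc (g : G) ^ 2 * z * ((g : G) ^ 2)⁻¹ = g * (g * z * (g : G)⁻¹) * (g : G)⁻¹ := by rw [sq]; group
            _ = g * (c * z) * (g : G)⁻¹ := by rw [e1]
            _ = (g * c * (g : G)⁻¹) * (g * z * (g : G)⁻¹) := by group
            _ = z := by
              rw [hgc.eq, mul_inv_cancel_right, e1, ← mul_assoc, Invol.invol_mul_self hco, one_mul]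
      exact D.sq_eq_one_of_commute hcH hcA
        (D.cent z hz hzo ▸ mem_centralizer_singleton_iff.2 h3.eq) (hgc.pow_left 2)
    rw [← map_pow, show g ^ 4 = 1 from Subtype.ext (by rw [← pow_mul] at h2; exact h2), map_one]
  -- the structure of `C/⟨c⟩` modulo its odd core
  set W := C ⧸ Zc
  have hWns : ¬ Group.IsSolvable W := fun hs => hCns (by
    haveI := hs
    exact solvable_of_ker_le_range Zc.subtype (QuotientGroup.mk' Zc) (by simp [Subgroup.range_subtype]))
  have hgW : GWBelow.{u} (Nat.card W) := hgw.mono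
    ((Nat.card_le_card_of_surjective _ (QuotientGroup.mk'_surjective Zc)).trans (Subgroup.card_le_card_group C))
  have hWo : Odd (Nat.card (Cfsg.oddCore W)) := odd_oddCore W
  have hlift : ∀ y, Commute y (QuotientGroup.mk' (Cfsg.oddCore W) (QuotientGroup.mk' Zc zC)) → y ^ 4 = 1 := by
    intro y hy
    obtain ⟨m, hm, hmz⟩ := exists_comm_lift hWo hzW hy
    rw [← hm, ← map_pow, hexp m hmz, map_one]
  rcases structure_quotient hW hgW with h2 | h4 | ⟨M, hMn, hMs, hMnc, hMd, hC, hM⟩
  · haveI := h2.isNilpotent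
    exact hWns (solvable_of_quot_oddCore (inferInstance : Group.IsSolvable (W ⧸ Cfsg.oddCore W)))
  · exact hWns (solvable_of_quot_oddCore (solvable_of_isFourType h4))
  haveI := hMn
  haveI := hMs
  have hY : DihTwo (W ⧸ Cfsg.oddCore W) := dihTwo_quotient hW _ (CfsgLib.Coprime.pPrimeCore_not_dvd Nat.prime_two)
  set y := QuotientGroup.mk' (Cfsg.oddCore W) (QuotientGroup.mk' Zc zC)
  have hyo : orderOf y = 2 := orderOf_mk_invol hWo hzW
  -- the character given by `G0` is non-trivial on `z` and kills the component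
  have hyM : y ∉ M := by
    intro hyM
    let ρ : C →* G ⧸ G0 := (QuotientGroup.mk' G0).comp C.subtype
    have hρc : Zc ≤ ρ.ker := zpowers_le.2 ((QuotientGroup.eq_one_iff _).2 hcG0)
    let ρW : W →* G ⧸ G0 := QuotientGroup.lift Zc ρ hρc
    have hρK : Cfsg.oddCore W ≤ ρW.ker := fun x hx => MonoidHom.mem_ker.2 (orderOf_eq_one_iff.1
      (Nat.eq_one_of_dvd_coprimes (Nat.coprime_two_left.2 (hWo.of_dvd_nat (Subgroup.orderOf_dvd_natCard _ hx))).symm
        (orderOf_map_dvd ρW x) ((_root_.orderOf_dvd_natCard _).trans (dvd_of_eq (by rw [← index_eq_card, hG0])))))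
    let ρY : (W ⧸ Cfsg.oddCore W) →* G ⧸ G0 := QuotientGroup.lift _ ρW hρK
    rcases ((ρY.comp M.subtype).normal_ker).eq_bot_or_eq_top with h1 | h1
    · refine hMnc ⟨⟨fun u v => (MonoidHom.ker_eq_bot_iff _).1 h1 ?_⟩⟩
      haveI : IsCyclic (G ⧸ G0) := isCyclic_of_prime_card (p := 2) (by rw [← index_eq_card, hG0])
      rw [map_mul, map_mul]
      exact IsCyclic.commGroup.mul_comm _ _
    · have h2 : (⟨y, hyM⟩ : M) ∈ (ρY.comp M.subtype).ker := h1 ▸ mem_top _
      exact hG0z ((QuotientGroup.eq_one_iff _).1 (MonoidHom.mem_ker.1 h2))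
  rcases hM with ⟨F, iF, jF, hodd, h3, ⟨e⟩⟩ | ⟨⟨e⟩⟩
  · have h2 : (2 : F) ≠ 0 := CfsgLib.Perm.Dickson.two_ne_zero_of_odd (F := F) (by rwa [Nat.card_eq_fintype_card])
    have h5 : 5 ≤ Fintype.card F := by
      obtain ⟨j, hj⟩ := hodd
      omega
    obtain ⟨R, -, -, hRcard, hRc, -⟩ := outer_torus M e hY hC h2 h5 hyo hyM
    haveI : Nontrivial R := Finite.one_lt_card_iff_nontrivial.1 (by
      have := three_le_outerCard_half hodd h5
      omega)
    obtain ⟨⟨r, hr⟩, hr1⟩ := exists_ne (1 : R)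
    refine hr1 (Subtype.ext (orderOf_eq_one_iff.1 (Nat.eq_one_of_dvd_coprimes
      ((Nat.coprime_two_left.2 ?_).pow_left 2) (orderOf_dvd_of_pow_eq_one (n := 2 ^ 2) (hlift r (hRc r hr)))
      (Subgroup.orderOf_dvd_natCard R hr))))
    rw [hRcard]
    exact odd_outerCard_half hodd
  · exact hyM (eq_top_of_alt7 hY M e hC ▸ mem_top y)

end Data

end CfsgLib.GW.DGroup
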