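import Cfsg.Agent.Lib.GW.DGroup.TwoRank
import Cfsg.Agent.Lib.GW.DGroup.QuasiDihedral
import Cfsg.Agent.Lib.Coprime.UniqueOrderP

/-!
# Groups with a self-centralising D-group

A non-solvable group with a D-group `H` of order divisible by four that is the centraliser of its central
involutions is `PSL(2, q)` or `PGL(2, q)` over a subgroup of order odd or twice odd, given the Gorenstein-Walter
theorem for simple groups.
-/

set_option autoImplicit false
set_option linter.style.haveILetI false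
set_option linter.unusedSectionVars false

open Subgroup

namespace CfsgLib.GW.DGroup

universe u

variable {G : Type u} [Group G] [Finite G]

namespace Data

variable {H A : Subgroup G} (D : Data H A)
include D

/-- a Sylow 2-subgroup inside `H` is dihedral when `A` has one involution -/
theorem dihTwo_of_sylow_le {z : G} (huniq : ∀ u ∈ A, orderOf u = 2 → u = z) (T : Sylow 2 G)
    (hTH : (T : Subgroup G) ≤ H) (h4 : 4 ∣ Nat.card (T : Subgroup G)) {b : G} (hb : b ∈ (T : Subgroup G))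
    (hbA : b ∉ A) : DihTwo G := by
  haveI : Fact (Nat.Prime 2) := ⟨Nat.prime_two⟩
  set M := A.subgroupOf (T : Subgroup G) with hM
  have hM2 : M.index = 2 := by
    refine Subgroup.index_eq_two_iff.2 ⟨⟨b, hb⟩, fun x => ?_⟩
    by_cases hx : (x : G) ∈ A
    · exact Or.inr ⟨hx, fun h => hbA ((mul_mem_cancel_left hx).1 h)⟩
    · exact Or.inl ⟨D.two x (hTH x.2) hx b (hTH hb) hbA, hx⟩
  haveI : IsMulCommutative M := ⟨⟨fun x y => Subtype.ext (Subtype.ext (D.comm _ x.2 _ y.2).eq)⟩⟩
  haveI : IsCyclic M := by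
    refine CfsgLib.Coprime.isCyclic_of_comm_of_unique (p := 2) (T.2.to_subgroup M) fun x y hx hy hx1 => ?_
    by_cases hy1 : y = 1
    · rw [hy1]; exact one_mem _
    have hval : ∀ u : M, u ^ 2 = 1 → u ≠ 1 → ((u : (T : Subgroup G)) : G) = z := fun u hu hu1 =>
      huniq _ u.2 (orderOf_eq_prime (congrArg (fun v : M => ((v : (T : Subgroup G)) : G)) hu)
        fun e => hu1 (Subtype.ext (Subtype.ext e)))
    have e : y = x := Subtype.ext (Subtype.ext ((hval y hy hy1).trans (hval x hx hx1).symm))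
    exact e ▸ mem_zpowers x
  obtain ⟨g, hg⟩ := IsCyclic.exists_generator (α := M)
  have hgen : zpowers (g : (T : Subgroup G)) = M := le_antisymm (zpowers_le.2 g.2) fun x hx => by
    obtain ⟨i, hi⟩ := hg ⟨x, hx⟩
    exact ⟨i, congrArg Subtype.val hi⟩
  set N := orderOf (g : (T : Subgroup G))
  have hcard : Nat.card (T : Subgroup G) = 2 * N := by
    rw [← M.card_mul_index, hM2, ← hgen, Nat.card_zpowers, mul_comm]
  have F : Invol.CyclicFrame N (-1) 0 (g : (T : Subgroup G)) (⟨b, hb⟩ : (T : Subgroup G)) := by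
    refine ⟨rfl, hcard, fun h => hbA ?_, Subtype.ext ?_, Subtype.ext ?_, orderOf_pos _⟩
    · rw [hgen] at h
      exact h
    · rw [zpow_neg, zpow_one]
      exact D.inv b (hTH hb) hbA _ g.2
    · rw [zpow_zero]
      exact Invol.invol_mul_self (D.invol b (hTH hb) hbA)
  obtain ⟨f⟩ := F.dihedralEquiv
  refine dihTwo_of_sylow T (n := N) ?_ f
  obtain ⟨k, hk⟩ := h4
  have hpos : 0 < Nat.card (T : Subgroup G) := Nat.card_pos
  rw [hcard] at hk hpos
  show 2 ≤ N
  omega

/-- **the case of one central involution** -/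
theorem hasQuot_of_one {z : G} (hz : z ∈ A) (hzo : orderOf z = 2) (huniq : ∀ u ∈ A, orderOf u = 2 → u = z)
    (hgw : GWBelow.{u} (Nat.card G)) (hns : ¬ Group.IsSolvable G) : HasQuot G := by
  classical
  haveI : Fact (Nat.Prime 2) := ⟨Nat.prime_two⟩
  obtain ⟨S, hSp, hSH, hS4, ⟨b, hbS, hbA⟩, hSA, hmax, hSidx⟩ := D.exists_sylow
  have hzS : z ∈ S := hSA z hz 1 (by rw [pow_one, ← hzo, pow_orderOf_eq_one])
  obtain ⟨T, hT⟩ := hSp.exists_le_sylow
  have hdih : (T : Subgroup G) ≤ S → HasQuot G := fun hle =>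
    D.hasQuot_of_dihTwo hz hzo (D.dihTwo_of_sylow_le huniq T (hle.trans hSH)
      ((le_antisymm hle hT).symm ▸ hS4) (hT hbS) hbA) hgw hns
  by_cases hTS : (T : Subgroup G) ≤ S
  · exact hdih hTS
  by_cases hbig : ∃ a ∈ S, a ∈ A ∧ a ^ 2 ≠ 1
  · -- then the central involution is fixed by the normaliser
    exfalso
    obtain ⟨a, haS, haA, ha2⟩ := hbig
    obtain ⟨k, hk⟩ := IsPGroup.iff_orderOf.1 hSp ⟨a, haS⟩
    rw [Subgroup.orderOf_mk] at hk
    obtain ⟨k, rfl⟩ : ∃ j, k = j + 2 := ⟨k - 2, by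
      rcases k with _ | _ | k
      · exact absurd (by rw [orderOf_eq_one_iff.1 (hk.trans (pow_zero 2)), one_pow]) ha2
      · exact absurd (by rw [← (hk.trans (pow_one 2)), pow_orderOf_eq_one]) ha2
      · omega⟩
    set a4 := a ^ 2 ^ k with ha4
    have hsqo : orderOf (a4 ^ 2) = 2 := by
      rw [ha4, ← pow_mul, orderOf_pow_of_dvd (by positivity)
        (hk ▸ ⟨2, by rw [pow_add]; ring⟩), hk, pow_add, Nat.mul_div_mul_left _ _ (by positivity)]
      rfl
    have hz4 : a4 ^ 2 = z := huniq _ (pow_mem (pow_mem haA _) _) hsqo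
    haveI := T.2.isNilpotent
    have hlt : S.subgroupOf (T : Subgroup G) < ⊤ := by
      rw [lt_top_iff_ne_top, Ne, subgroupOf_eq_top]
      exact hTS
    obtain ⟨n, hn, hnS⟩ := SetLike.exists_of_lt (Group.normalizerCondition_of_isNilpotent _ hlt)
    have hnconj : (n : G) * a4 * (n : G)⁻¹ ∈ S :=
      mem_subgroupOf.1 ((mem_normalizer_iff.1 hn ⟨a4, hT (pow_mem haS _)⟩).1 (mem_subgroupOf.2 (pow_mem haS _)))
    have hne : ((n : G) * a4 * (n : G)⁻¹) ^ 2 ≠ 1 := by
      rw [conj_pow, hz4]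
      exact fun e => Invol.invol_ne_one hzo (conj_eq_one_iff.1 e)
    have hA' : (n : G) * a4 * (n : G)⁻¹ ∈ A := by_contra fun h => hne (by
      exact orderOf_dvd_iff_pow_eq_one.1 (D.invol _ (hSH hnconj) h).dvd)
    have hfix : (n : G) * z * (n : G)⁻¹ = z := by
      rw [← hz4, ← conj_pow]
      exact (huniq _ (pow_mem hA' 2) (by rw [conj_pow, ← MulAut.conj_apply, MulEquiv.orderOf_eq, hsqo])).trans hz4.symm
    refine hnS (mem_subgroupOf.2 ?_)
    have hnH : (n : G) ∈ H := D.cent z hz hzo ▸ mem_centralizer_singleton_iff.2 (mul_inv_eq_iff_eq_mul.1 hfix)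
    have h1 := hmax (((T : Subgroup G)) ⊓ H) (T.2.to_le inf_le_left) (le_inf hT hSH) inf_le_right
    exact h1.le ⟨n.2, hnH⟩
  push Not at hbig
  -- a four group `S`, self-centralising in a larger Sylow subgroup
  have hS : Nat.card S = 4 := by
    have h1 : Nat.card (A ⊓ S : Subgroup G) ≤ 2 := by
      have hsub : ((A ⊓ S : Subgroup G) : Set G) ⊆ {1, z} := fun x hx => by
        by_cases hx1 : x = 1
        · exact Or.inl hx1
        · exact Or.inr (huniq x hx.1 (orderOf_eq_prime (hbig x hx.2 hx.1) hx1))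
      rw [← SetLike.coe_sort_coe, Nat.card_coe_set_eq]
      exact (Set.ncard_le_ncard hsub).trans (Set.ncard_insert_le _ _ |>.trans (by rw [Set.ncard_singleton]))
    have h2 : Nat.card (A ⊓ S : Subgroup G) * 2 = Nat.card S := by
      rw [← hSidx, relIndex, ← Nat.card_congr (subgroupOfEquivOfLe (inf_le_right : A ⊓ S ≤ S)).toEquiv, card_mul_index]
    obtain ⟨j, hj⟩ := hS4
    have := Nat.card_pos (α := S)
    omega
  have h4H : ∀ Q : Subgroup G, IsPGroup 2 Q → Q ≤ H → Nat.card Q ≤ 4 := by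
    intro Q hQ hQH
    let P : Sylow 2 H :=
      { toSubgroup := S.subgroupOf H
        isPGroup' := hSp.comap_of_injective H.subtype H.subtype_injective
        is_maximal' := fun {R} hR hle => by
          have h1 := hmax (R.map H.subtype) (hR.map _) (fun x hx => ⟨⟨x, hSH hx⟩, hle (mem_subgroupOf.2 hx), rfl⟩)
            (map_subtype_le _)
          refine le_antisymm (fun x hx => mem_subgroupOf.2 (h1 ▸ mem_map_of_mem H.subtype hx)) hle }
    obtain ⟨R, hR⟩ := (hQ.comap_of_injective H.subtype H.subtype_injective).exists_le_sylow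
    have h1 := Subgroup.card_le_of_le hR
    rw [Sylow.card_eq_multiplicity, ← Sylow.card_eq_multiplicity P, Subgroup.comap_subtype,
      Nat.card_congr (subgroupOfEquivOfLe hQH).toEquiv] at h1
    refine h1.trans (le_of_eq ?_)
    show Nat.card (S.subgroupOf H) = 4
    rw [Nat.card_congr (subgroupOfEquivOfLe hSH).toEquiv, hS]
  obtain ⟨n, hn⟩ := T.2.exists_card_eq
  have hn3 : 3 ≤ n := by
    by_contra hlt
    refine hTS (Subgroup.eq_of_le_of_card_ge hT ?_).ge
    rw [hn, hS]
    exact (Nat.pow_le_pow_right two_pos (by omega : n ≤ 2)).trans (by norm_num)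
  have hzT : z ∈ (T : Subgroup G) := hT hzS
  set S' := S.subgroupOf (T : Subgroup G)
  have hS' : Nat.card S' = 2 ^ 2 := by rw [Nat.card_congr (subgroupOfEquivOfLe hT).toEquiv, hS]; norm_num
  haveI : IsMulCommutative S' := IsPGroup.isMulCommutative_of_card_eq_prime_sq hS'
  have hself : centralizer (S' : Set (T : Subgroup G)) = S' := by
    refine le_antisymm (fun x hx => mem_subgroupOf.2 ?_) (Subgroup.le_centralizer S')
    have h1 := congrArg Subtype.val (mem_centralizer_iff.1 hx ⟨z, hzT⟩ (mem_subgroupOf.2 hzS))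
    have h2 := hmax ((T : Subgroup G) ⊓ H) (T.2.to_le inf_le_left) (le_inf hT hSH) inf_le_right
    exact h2.le ⟨x.2, D.cent z hz hzo ▸ mem_centralizer_singleton_iff.2 h1.symm⟩
  have hclass := CfsgLib.PGroup.maximalClass_of_selfCentralizing (p := 2) n (T : Subgroup G) hn S' hS' hself
  have hidx := CfsgLib.PGroup.index_commutator_of_maximal_two hn3 hn hclass
  obtain ⟨r, e, a, c, ht, F⟩ := CfsgLib.PGroup.exists_frame_two hn3 hn hidx
  rcases Invol.cases_of_std ht F with ⟨⟨f⟩⟩ | ⟨⟨f⟩⟩ | hqd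
  · refine D.hasQuot_of_dihTwo hz hzo (dihTwo_of_sylow T ?_ f) hgw hns
    calc 2 = 2 ^ 1 := rfl
      _ ≤ 2 ^ (n - 1) := Nat.pow_le_pow_right two_pos (by omega)
  · exfalso
    haveI : NeZero (2 ^ (n - 1 - 1)) := ⟨by positivity⟩
    have key : ∀ x (hx : x ∈ S), orderOf x = 2 → f ⟨x, hT hx⟩ = .a (((2 ^ (n - 1 - 1) : ℕ)) : ZMod _) := by
      intro x hx hxo
      refine (Invol.quaternion_sq_one (?_ : f ⟨x, hT hx⟩ * f ⟨x, hT hx⟩ = 1)).resolve_left fun e' => ?_
      · rw [← map_mul, show (⟨x, hT hx⟩ : (T : Subgroup G)) * ⟨x, hT hx⟩ = 1 from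
          Subtype.ext (Invol.invol_mul_self hxo), map_one]
      · exact Invol.invol_ne_one hxo (congrArg Subtype.val ((MulEquiv.map_eq_one_iff f).1 e'))
    have h1 := f.injective ((key z hzS hzo).trans (key b hbS (D.invol b (hSH hbS) hbA)).symm)
    have h2 : z = b := congrArg Subtype.val h1
    exact hbA (h2 ▸ hz)
  · exact (D.false_of_quasiDihedral hz hzo huniq h4H T hzT hqd hidx hgw hns).elim

end Data

/-- **groups with a self-centralising D-group** -/
theorem hasQuot {H A : Subgroup G} (hAH : A < H) (hD : ∀ x ∈ H, x ∉ A → x ^ 2 = 1) (h4 : 4 ∣ Nat.card H)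
    (hC : ∀ j ∈ H, orderOf j = 2 → (∀ h ∈ H, h * j = j * h) → centralizer ({j} : Set G) = H)
    (hgw : GWBelow.{u} (Nat.card G)) (hns : ¬ Group.IsSolvable G) : HasQuot G := by
  rcases cases hAH hD h4 hC with ⟨hexp, hC'⟩ | D
  · exact hasQuot_of_exponent_two hexp hC' h4 hns
  obtain ⟨z, hz, hzo⟩ := D.exists_central
  by_cases huniq : ∀ u ∈ A, orderOf u = 2 → u = z
  · exact D.hasQuot_of_one hz hzo huniq hgw hns
  push Not at huniq
  obtain ⟨w, hw, hwo, hne⟩ := huniq
  exact D.hasQuot_of_two hz hzo hw hwo hne.symm hns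

end CfsgLib.GW.DGroup
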