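import Cfsg.Agent.Lib.Invol.Basic
import Cfsg.Agent.Lib.Coprime.BenderUniqueness
import Mathlib.LinearAlgebra.Matrix.ProjectiveSpecialLinearGroup

/-!
# A self-centralising D-group: the setup

`H` has a subgroup `A` with `x ^ 2 = 1` off `A` and is the centraliser of each of its central involutions.
Either `H` has exponent two or `A` is abelian of index two and inverted by every element of `H \ A`.
-/

set_option autoImplicit false
set_option linter.style.haveILetI false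
set_option linter.unusedSectionVars false

open Subgroup

namespace CfsgLib.GW.DGroup

universe u

variable {G : Type u} [Group G] [Finite G]

/-- the conclusion: `PSL(2, q)` or `PGL(2, q)` with `q > 3` over a subgroup of order odd or twice odd -/
def HasQuot (G : Type u) [Group G] : Prop :=
  ∃ (N : Subgroup G) (_ : N.Normal), (Odd (Nat.card ↥N) ∨ ∃ m : ℕ, Odd m ∧ Nat.card ↥N = 2 * m) ∧
    ∃ (F : Type) (_ : Field F) (_ : Fintype F), 3 < Fintype.card F ∧
      (Nonempty (G ⧸ N ≃* Matrix.ProjectiveSpecialLinearGroup (Fin 2) F) ∨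
        Nonempty (G ⧸ N ≃* Matrix.ProjGenLinGroup (Fin 2) F))

/-- the case of index two -/
structure Data (H A : Subgroup G) : Prop where
  le : A ≤ H
  comm : ∀ a ∈ A, ∀ b ∈ A, Commute a b
  invol : ∀ x ∈ H, x ∉ A → orderOf x = 2
  inv : ∀ x ∈ H, x ∉ A → ∀ a ∈ A, x * a * x⁻¹ = a⁻¹
  two : ∀ x ∈ H, x ∉ A → ∀ y ∈ H, y ∉ A → x * y ∈ A
  out : ∃ b ∈ H, b ∉ A
  cent : ∀ z ∈ A, orderOf z = 2 → centralizer ({z} : Set G) = H
  four : 4 ∣ Nat.card H
  moved : ∃ a ∈ A, a ^ 2 ≠ 1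

/-- **exponent two, or index two** -/
theorem cases {H A : Subgroup G} (hAH : A < H) (hD : ∀ x ∈ H, x ∉ A → x ^ 2 = 1) (h4 : 4 ∣ Nat.card H)
    (hC : ∀ j ∈ H, orderOf j = 2 → (∀ h ∈ H, h * j = j * h) → centralizer ({j} : Set G) = H) :
    ((∀ x ∈ H, x ^ 2 = 1) ∧ ∀ j ∈ H, orderOf j = 2 → centralizer ({j} : Set G) = H) ∨ Data H A := by
  by_cases hexp : ∀ x ∈ H, x ^ 2 = 1
  · refine Or.inl ⟨hexp, fun j hj hjo => hC j hj hjo fun h hh => ?_⟩
    have hself : ∀ y ∈ H, y⁻¹ = y := fun y hy => inv_eq_of_mul_eq_one_right (by rw [← sq, hexp y hy])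
    have h1 := hself _ (mul_mem hh hj)
    rw [_root_.mul_inv_rev, hself h hh, hself j hj] at h1
    exact h1.symm
  refine Or.inr ?_
  have hinv : ∀ x ∈ H, x ∉ A → ∀ a ∈ A, x * a * x⁻¹ = a⁻¹ := by
    intro x hx hxA a ha
    have hxa : x * a ∉ A := fun h => hxA ((mul_mem_cancel_right ha).1 h)
    have h1 := hD _ (mul_mem hx (hAH.le ha)) hxa
    have h2 := hD x hx hxA
    rw [sq] at h1 h2
    rw [inv_eq_of_mul_eq_one_right h2]
    exact (eq_inv_of_mul_eq_one_left (by rw [← h1]; group))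
  have hmov : ∃ a ∈ A, a ^ 2 ≠ 1 := by
    push Not at hexp
    obtain ⟨x, hx, hx2⟩ := hexp
    exact ⟨x, by_contra fun h => hx2 (hD x hx h), hx2⟩
  have htwo : ∀ x ∈ H, x ∉ A → ∀ y ∈ H, y ∉ A → x * y ∈ A := by
    intro x hx hxA y hy hyA
    by_contra hxy
    obtain ⟨a, ha, ha2⟩ := hmov
    have h1 := hinv _ (mul_mem hx hy) hxy a ha
    rw [show x * y * a * (x * y)⁻¹ = x * (y * a * y⁻¹) * x⁻¹ by group, hinv y hy hyA a ha,
      hinv x hx hxA _ (inv_mem ha), inv_inv] at h1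
    exact ha2 (by rw [sq]; exact mul_eq_one_iff_eq_inv.2 h1)
  obtain ⟨b, hb, hbA⟩ := SetLike.exists_of_lt hAH
  have hcomm : ∀ a ∈ A, ∀ c ∈ A, Commute a c := by
    intro a ha c hc
    have h := hinv b hb hbA _ (mul_mem ha hc)
    rw [show b * (a * c) * b⁻¹ = (b * a * b⁻¹) * (b * c * b⁻¹) by group, hinv b hb hbA a ha, hinv b hb hbA c hc,
      _root_.mul_inv_rev] at h
    exact Commute.inv_inv_iff.1 h
  refine ⟨hAH.le, hcomm, fun x hx hxA => orderOf_eq_prime (hD x hx hxA) fun e => hxA (e ▸ one_mem _), hinv, htwo,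
    ⟨b, hb, hbA⟩, fun z hz hzo => hC z (hAH.le hz) hzo fun h hh => ?_, h4, hmov⟩
  by_cases hhA : h ∈ A
  · exact (hcomm h hhA z hz).eq
  · have := hinv h hh hhA z hz
    rw [inv_eq_of_mul_eq_one_right (Invol.invol_mul_self hzo)] at this
    exact mul_inv_eq_iff_eq_mul.1 this

namespace Data

variable {H A : Subgroup G} (D : Data H A)
include D

theorem le_normalizer : H ≤ normalizer (A : Set G) := by
  have key : ∀ x ∈ H, ∀ a ∈ A, x * a * x⁻¹ ∈ A := fun x hx a ha => by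
    by_cases hxA : x ∈ A
    · exact mul_mem (mul_mem hxA ha) (inv_mem hxA)
    · exact (D.inv x hx hxA a ha).symm ▸ inv_mem ha
  intro x hx
  refine mem_normalizer_iff.2 fun a => ⟨key x hx a, fun ha => ?_⟩
  have := key x⁻¹ (inv_mem hx) _ ha
  simpa [mul_assoc] using this

/-- commuting with an element outside `A` means exponent two -/
theorem sq_eq_one_of_commute {b h : G} (hb : b ∈ H) (hbA : b ∉ A) (hh : h ∈ H) (hc : Commute h b) : h ^ 2 = 1 := by
  by_cases hhA : h ∈ A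
  · have h1 := D.inv b hb hbA h hhA
    rw [← hc.eq, mul_inv_cancel_right] at h1
    rw [sq]
    exact mul_eq_one_iff_eq_inv.2 h1
  · rw [← D.invol h hh hhA, pow_orderOf_eq_one]

/-- two elements of `H` that are not involutions commute -/
theorem commute_of_sq_ne_one {x y : G} (hx : x ∈ H) (hy : y ∈ H) (hx2 : x ^ 2 ≠ 1) (hy2 : y ^ 2 ≠ 1) :
    Commute x y := by
  refine D.comm x (by_contra fun h => hx2 ?_) y (by_contra fun h => hy2 ?_)
  · rw [← D.invol x hx h, pow_orderOf_eq_one]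
  · rw [← D.invol y hy h, pow_orderOf_eq_one]

theorem relIndex_eq_two : A.relIndex H = 2 := by
  obtain ⟨b, hb, hbA⟩ := D.out
  refine Subgroup.index_eq_two_iff.2 ⟨⟨b, hb⟩, fun x => ?_⟩
  by_cases hx : (x : G) ∈ A
  · exact Or.inr ⟨hx, fun h => hbA ((mul_mem_cancel_left hx).1 h)⟩
  · exact Or.inl ⟨D.two x x.2 hx b hb hbA, hx⟩

theorem exists_central : ∃ z ∈ A, orderOf z = 2 := by
  haveI : Fact (Nat.Prime 2) := ⟨Nat.prime_two⟩
  have h : Nat.card A * 2 = Nat.card H := by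
    rw [← D.relIndex_eq_two, relIndex, ← Nat.card_congr (subgroupOfEquivOfLe D.le).toEquiv, card_mul_index]
  obtain ⟨k, hk⟩ := D.four
  obtain ⟨z, hz⟩ := exists_prime_orderOf_dvd_card' (G := A) 2 ⟨k, by omega⟩
  exact ⟨z, z.2, by rw [Subgroup.orderOf_coe, hz]⟩

/-- a Sylow 2-subgroup of `H`: it has an element outside `A` and all 2-elements of `A` -/
theorem exists_sylow :
    ∃ S : Subgroup G, IsPGroup 2 S ∧ S ≤ H ∧ 4 ∣ Nat.card S ∧ (∃ b ∈ S, b ∉ A) ∧
      (∀ a ∈ A, ∀ k : ℕ, a ^ 2 ^ k = 1 → a ∈ S) ∧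
      (∀ Q : Subgroup G, IsPGroup 2 Q → S ≤ Q → Q ≤ H → Q = S) ∧ (A ⊓ S).relIndex S = 2 := by
  haveI : Fact (Nat.Prime 2) := ⟨Nat.prime_two⟩
  obtain ⟨b, hb, hbA⟩ := D.out
  obtain ⟨P, hP⟩ := (IsPGroup.of_card (n := 1) (by
    rw [Nat.card_zpowers, Subgroup.orderOf_mk, D.invol b hb hbA, pow_one]) :
    IsPGroup 2 (zpowers (⟨b, hb⟩ : H))).exists_le_sylow
  set S := (P : Subgroup H).map H.subtype with hS
  have hbS : b ∈ S := ⟨⟨b, hb⟩, hP (mem_zpowers _), rfl⟩
  haveI : (A.subgroupOf H).Normal := (normal_subgroupOf_iff_le_normalizer D.le).2 D.le_normalizer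
  refine ⟨S, P.2.map _, map_subtype_le _, ?_, ⟨b, hbS, hbA⟩, fun a ha k hk => ?_, fun Q hQ hle hQH => ?_, ?_⟩
  · rw [hS, ← Nat.card_congr (equivMapOfInjective _ _ H.subtype_injective).toEquiv]
    exact P.pow_dvd_card_of_pow_dvd_card (n := 2) D.four
  · -- the 2-elements of the abelian normal subgroup lie in every Sylow subgroup
    let W : Subgroup G :=
      { carrier := {x | x ∈ A ∧ ∃ k : ℕ, x ^ 2 ^ k = 1}
        one_mem' := ⟨one_mem _, 0, one_pow _⟩
        mul_mem' := by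
          rintro x y ⟨hx, k, hk⟩ ⟨hy, l, hl⟩
          exact ⟨mul_mem hx hy, k + l, by
            rw [(D.comm x hx y hy).mul_pow, pow_add, pow_mul, hk, one_pow, one_mul, mul_comm (2 ^ k), pow_mul, hl,
              one_pow]⟩
        inv_mem' := by
          rintro x ⟨hx, k, hk⟩
          exact ⟨inv_mem hx, k, by rw [inv_pow, hk, inv_one]⟩ }
    have hWp : IsPGroup 2 (W.subgroupOf H) := fun x => by
      obtain ⟨-, k, hk⟩ := mem_subgroupOf.1 x.2
      exact ⟨k, Subtype.ext (Subtype.ext hk)⟩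
    haveI : (W.subgroupOf H).Normal := ⟨fun x hx g => by
      obtain ⟨hxA, k, hk⟩ := mem_subgroupOf.1 hx
      exact mem_subgroupOf.2 ⟨(mem_normalizer_iff.1 (D.le_normalizer g.2) _).1 hxA, k,
        (conj_pow).trans (by rw [hk, mul_one, mul_inv_cancel])⟩⟩
    obtain ⟨Q, hQ⟩ := hWp.exists_le_sylow
    obtain ⟨g, hg⟩ := MulAction.exists_smul_eq H Q P
    have hle : W.subgroupOf H ≤ (P : Subgroup H) := fun x hx => by
      rw [← hg, Sylow.coe_subgroup_smul]
      refine ⟨g⁻¹ * x * g, hQ ?_, ?_⟩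
      · simpa using Normal.conj_mem inferInstance x hx g⁻¹
      · show g * (g⁻¹ * x * g) * g⁻¹ = x
        group
    exact ⟨⟨a, D.le ha⟩, hle (mem_subgroupOf.2 ⟨ha, k, hk⟩), rfl⟩
  · have h1 := P.3 (Q := Q.subgroupOf H) (hQ.comap_of_injective H.subtype H.subtype_injective)
      fun x hx => mem_subgroupOf.2 (hle ⟨x, hx, rfl⟩)
    rw [hS, ← h1, map_subgroupOf_eq_of_le hQH]
  · rw [inf_relIndex_right]
    have h0 : A.relIndex H ≠ 0 := by rw [D.relIndex_eq_two]; exact two_ne_zero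
    have h1 := D.relIndex_eq_two ▸ relIndex_le_of_le_right (map_subtype_le (P : Subgroup H)) h0
    refine le_antisymm h1 ((Nat.two_le_iff _).2 ⟨Subgroup.FiniteIndex.index_ne_zero, fun h => hbA ?_⟩)
    exact relIndex_eq_one.1 h hbS

end Data

end CfsgLib.GW.DGroup
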