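import Cfsg.Agent.Lib.GW.DGroup.Elementary
import Cfsg.Agent.Lib.Invol.TransferOrder
import Cfsg.Agent.Lib.Invol.ZStar
import Cfsg.Agent.Lib.Coprime.Solvable
import Cfsg.Agent.Lib.LocalStructure.Basic
import Cfsg.Agent.Lib.Perm.Dickson.Minimal
import Cfsg.Agent.Lib.GW.InvolPSL
import Cfsg.Agent.Lib.Invol.KleinPair

/-!
# A self-centralising D-group with two central involutions

No involution of `H \ A` is fused into `A`.  Transfer gives a subgroup of index two with abelian involution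
centralisers; an element of the Sylow subgroup outside it is central modulo the odd core by Glauberman's theorem.
-/

set_option autoImplicit false
set_option linter.style.haveILetI false
set_option linter.unusedSectionVars false

open Subgroup

namespace CfsgLib.GW.DGroup

universe u

variable {G : Type u} [Group G] [Finite G]

/-- elements of order dividing four of `SL(2, F)` in characteristic two are involutions -/
theorem sq_eq_one_of_pow_four {F : Type*} [Field F] [CharP F 2] (x : Matrix.SpecialLinearGroup (Fin 2) F)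
    (h : x ^ 4 = 1) : x ^ 2 = 1 := by
  set t : F := x.1 0 0 + x.1 1 1 with ht
  have h2 : (2 : F) = 0 := CharTwo.two_eq_zero
  have hdet : x.1 0 0 * x.1 1 1 - x.1 0 1 * x.1 1 0 = 1 := by rw [← Matrix.det_fin_two]; exact x.2
  have hsq : x.1 * x.1 = t • x.1 + 1 := by
    ext i j
    fin_cases i <;> fin_cases j <;>
      simp [Matrix.mul_apply, Fin.sum_univ_two, ht]
    · linear_combination (-(1 : F)) * hdet - h2
    · ring
    · ring
    · linear_combination (-(1 : F)) * hdet - h2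
  have h4 : x.1 * x.1 * (x.1 * x.1) = 1 := by
    have := congrArg Subtype.val h
    rw [show (4 : ℕ) = 2 + 2 from rfl, pow_add, sq] at this
    exact this
  have h5 : (t * t) • (x.1 * x.1) = 0 := by
    have h6 : (t • x.1 + 1) * (t • x.1 + 1) = (t * t) • (x.1 * x.1) + (2 : F) • (t • x.1) + 1 := by
      rw [two_smul F (t • x.1)]
      simp only [add_mul, mul_add, Algebra.smul_mul_assoc, Algebra.mul_smul_comm, one_mul, mul_one, smul_add,
        smul_smul]
      abel
    rw [← hsq, h2, zero_smul, add_zero, h4] at h6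
    exact add_eq_right.1 h6.symm
  have hne : x.1 * x.1 ≠ 0 := fun e => by
    rw [e, zero_mul] at h4
    exact zero_ne_one h4
  have ht0 : t = 0 := mul_self_eq_zero.1 ((smul_eq_zero.1 h5).resolve_right hne)
  refine Subtype.ext ?_
  show (x ^ 2).1 = 1
  rw [sq]
  show x.1 * x.1 = 1
  rw [hsq, ht0, zero_smul, zero_add]

namespace Data

variable {H A : Subgroup G} (D : Data H A)
include D

/-- **no involution of `H \ A` is fused into `A`** -/
theorem not_fused {z w : G} (hz : z ∈ A) (hzo : orderOf z = 2) (hw : w ∈ A) (hwo : orderOf w = 2) (hne : z ≠ w)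
    {b : G} (hb : b ∈ H) (hbA : b ∉ A) (g : G) : g * b * g⁻¹ ∉ A := by
  intro he
  have heo : orderOf (g * b * g⁻¹) = 2 := by rw [← MulAut.conj_apply, MulEquiv.orderOf_eq, D.invol b hb hbA]
  obtain ⟨a, ha, ha2⟩ := D.moved
  have key : ∀ u ∈ A, orderOf u = 2 → g * u * g⁻¹ ∈ H ∧ g * u * g⁻¹ ∉ A := by
    intro u hu huo
    have hub : Commute u b := by
      have h1 := D.inv b hb hbA u hu
      rw [inv_eq_of_mul_eq_one_right (Invol.invol_mul_self huo)] at h1
      exact (mul_inv_eq_iff_eq_mul.1 h1).symm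
    refine ⟨D.cent _ he heo ▸ mem_centralizer_singleton_iff.2 (hub.map (MulAut.conj g).toMonoidHom).eq, fun hgu => ?_⟩
    have h2 : g * a * g⁻¹ ∈ H := D.cent _ hgu (by rw [← MulAut.conj_apply, MulEquiv.orderOf_eq, huo]) ▸
      mem_centralizer_singleton_iff.2 ((D.comm a ha u hu).map (MulAut.conj g).toMonoidHom).eq
    rw [← D.cent _ he heo, mem_centralizer_singleton_iff] at h2
    have h3 : Commute a b := by
      have h4 := (show Commute (g * a * g⁻¹) (g * b * g⁻¹) from h2).map (MulAut.conj g⁻¹).toMonoidHom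
      simpa [mul_assoc] using h4
    exact ha2 (D.sq_eq_one_of_commute hb hbA (D.le ha) h3)
  obtain ⟨h1, h2⟩ := key z hz hzo
  obtain ⟨h3, h4⟩ := key w hw hwo
  have hzw : orderOf (z * w) = 2 := by
    refine orderOf_eq_prime ?_ fun h => hne ?_
    · rw [(D.comm z hz w hw).mul_pow, ← hzo, pow_orderOf_eq_one, hzo, ← hwo, pow_orderOf_eq_one, mul_one]
    · rw [eq_inv_of_mul_eq_one_left h, inv_eq_of_mul_eq_one_right (Invol.invol_mul_self hwo)]
  refine (key _ (mul_mem hz hw) hzw).2 ?_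
  have h5 := D.two _ h1 h2 _ h3 h4
  rwa [show g * (z * w) * g⁻¹ = g * z * g⁻¹ * (g * w * g⁻¹) by group]

/-- **the case of two central involutions** -/
theorem hasQuot_of_two {z w : G} (hz : z ∈ A) (hzo : orderOf z = 2) (hw : w ∈ A) (hwo : orderOf w = 2)
    (hne : z ≠ w) (hns : ¬ Group.IsSolvable G) : HasQuot G := by
  classical
  haveI : Fact (Nat.Prime 2) := ⟨Nat.prime_two⟩
  have hfus : ∀ {b : G}, b ∈ H → b ∉ A → ∀ g : G, g * b * g⁻¹ ∉ A := fun hb hbA =>
    D.not_fused hz hzo hw hwo hne hb hbA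
  obtain ⟨S, hSp, hSH, hS4, ⟨b, hbS, hbA⟩, hSA, hmax, hSidx⟩ := D.exists_sylow
  have hzS : z ∈ S := hSA z hz 1 (by rw [pow_one, ← hzo, pow_orderOf_eq_one])
  have hwS : w ∈ S := hSA w hw 1 (by rw [pow_one, ← hwo, pow_orderOf_eq_one])
  have hz2 : z ^ 2 = 1 := by rw [← hzo, pow_orderOf_eq_one]
  -- `S` is a Sylow subgroup of `G`
  obtain ⟨T, hT⟩ := hSp.exists_le_sylow
  have hTS : (T : Subgroup G) = S := by
    refine le_antisymm ?_ hT
    by_contra hle
    haveI := T.2.isNilpotent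
    have hlt : S.subgroupOf (T : Subgroup G) < ⊤ := by
      rw [lt_top_iff_ne_top, Ne, subgroupOf_eq_top]
      exact hle
    obtain ⟨n, hn, hnS⟩ := SetLike.exists_of_lt (Group.normalizerCondition_of_isNilpotent _ hlt)
    have hnN : (n : G) ∈ normalizer (S : Set G) := by
      rw [mem_normalizer_iff] at hn ⊢
      refine fun x => ⟨fun hx => mem_subgroupOf.1 ((hn ⟨x, hT hx⟩).1 (mem_subgroupOf.2 hx)), fun hx => ?_⟩
      have hxT : x ∈ (T : Subgroup G) := by
        have := mul_mem (mul_mem (inv_mem n.2) (hT hx)) n.2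
        simpa [mul_assoc] using this
      exact mem_subgroupOf.1 ((hn ⟨x, hxT⟩).2 (mem_subgroupOf.2 hx))
    set Q := (T : Subgroup G) ⊓ normalizer (S : Set G) with hQ
    let E : Subgroup G :=
      { carrier := {x | x ∈ A ∧ x ^ 2 = 1}
        one_mem' := ⟨one_mem _, one_pow _⟩
        mul_mem' := fun {x y} hx hy => ⟨mul_mem hx.1 hy.1, by rw [(D.comm x hx.1 y hy.1).mul_pow, hx.2, hy.2, one_mul]⟩
        inv_mem' := fun {x} hx => ⟨inv_mem hx.1, by rw [inv_pow, hx.2, inv_one]⟩ }
    have hES : E ≤ S := fun x hx => hSA x hx.1 1 (by rw [pow_one]; exact hx.2)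
    have hEQ : E ≤ Q := le_inf (hES.trans hT) (hES.trans Subgroup.le_normalizer)
    haveI : (E.subgroupOf Q).Normal := ⟨fun x hx q => by
      obtain ⟨hxA, hx2⟩ := mem_subgroupOf.1 hx
      refine mem_subgroupOf.2 ⟨by_contra fun hc => ?_, conj_pow.trans (by rw [hx2, mul_one, mul_inv_cancel])⟩
      have hyS : (q : G) * x * (q : G)⁻¹ ∈ S := (mem_normalizer_iff.1 q.2.2 _).1 (hES ⟨hxA, hx2⟩)
      refine hfus (hSH hyS) hc (q : G)⁻¹ ?_
      simpa [mul_assoc] using hxA⟩
    haveI : Group.IsNilpotent Q := (T.2.to_le inf_le_left).isNilpotent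
    obtain ⟨⟨e, heQ⟩, he1⟩ := ne_bot_iff_exists_ne_one.1
      (CfsgLib.Coprime.nilpotent_inf_center_ne_bot (E.subgroupOf Q) fun h => by
        have h1 : (⟨z, hEQ ⟨hz, hz2⟩⟩ : Q) ∈ E.subgroupOf Q :=
          mem_subgroupOf.2 ⟨hz, hz2⟩
        rw [h, mem_bot] at h1
        exact Invol.invol_ne_one hzo (congrArg Subtype.val h1))
    obtain ⟨hee, hec⟩ := heQ
    have heo : orderOf (e : G) = 2 := orderOf_eq_prime (mem_subgroupOf.1 hee).2 fun h =>
      he1 (Subtype.ext (Subtype.ext h))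
    have hQH : Q ≤ H := fun q hq => D.cent _ (mem_subgroupOf.1 hee).1 heo ▸
      mem_centralizer_singleton_iff.2 (congrArg Subtype.val (mem_center_iff.1 hec ⟨q, hq⟩))
    refine hnS (mem_subgroupOf.2 ?_)
    rw [← hmax Q (T.2.to_le inf_le_left) (le_inf hT Subgroup.le_normalizer) hQH]
    exact ⟨n.2, hnN⟩
  -- a subgroup of index two
  have hidxT : (A ⊓ S).relIndex (T : Subgroup G) = 2 := by rw [hTS]; exact hSidx
  have hnoM : ∀ y ∈ S, y ∉ A → orderOf y = 2 ^ 1 ∧ ∀ g : G, g * y * g⁻¹ ∉ A ⊓ S := fun y hy hyA =>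
    ⟨(D.invol y (hSH hy) hyA).trans (pow_one 2).symm, fun g h => hfus (hSH hy) hyA g h.1⟩
  obtain ⟨G0, hG0, hG0out⟩ := Invol.exists_index_two_forall_notMem T (A ⊓ S) (by rw [hTS]; exact inf_le_right) hidxT
    (n := 1) (fun y hy hyM => by
      rw [Nat.sub_self, pow_zero]
      rw [hTS] at hy
      rw [D.invol y (hSH hy) fun h => hyM ⟨h, hy⟩]
      norm_num) b (hnoM b hbS hbA).1 (hnoM b hbS hbA).2
  haveI := Subgroup.normal_of_index_eq_two hG0
  have hSout : ∀ y ∈ S, y ∉ A → y ∉ G0 := fun y hy hyA => hG0out y (hnoM y hy hyA).1 (hnoM y hy hyA).2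
  have hSin : ∀ a ∈ S, a ∈ A → a ∈ G0 := fun a ha haA => by
    have h1 := hSout _ (mul_mem ha hbS) fun h => hbA ((mul_mem_cancel_left haA).1 h)
    rw [Subgroup.mul_mem_iff_of_index_two hG0] at h1
    by_contra h
    exact h1 ⟨fun h' => absurd h' h, fun h' => absurd h' (hSout b hbS hbA)⟩
  have hHout : ∀ y ∈ H, y ∉ A → y ∉ G0 := by
    intro y hy hyA hy0
    obtain ⟨R, hR⟩ := (IsPGroup.of_card (n := 1) (by
      rw [Nat.card_zpowers, Subgroup.orderOf_mk, D.invol y hy hyA, pow_one]) :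
      IsPGroup 2 (zpowers (⟨y, hy⟩ : H))).exists_le_sylow
    have hSs : ¬ 2 ∣ (S.subgroupOf H).index := fun h => by
      have h1 := T.not_dvd_index
      rw [hTS] at h1
      refine h1 (h.trans ?_)
      rw [← relIndex_mul_index hSH]
      exact Dvd.intro _ rfl
    set P := (hSp.comap_of_injective H.subtype H.subtype_injective : IsPGroup 2 (S.subgroupOf H)).toSylow hSs
    obtain ⟨g, hg⟩ := MulAction.exists_smul_eq H R P
    have hmem : (g : G) * y * (g : G)⁻¹ ∈ S := by
      have h1 : g * ⟨y, hy⟩ * g⁻¹ ∈ (P : Subgroup H) := by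
        rw [← hg, Sylow.coe_subgroup_smul]
        exact ⟨⟨y, hy⟩, hR (mem_zpowers _), rfl⟩
      exact mem_subgroupOf.1 h1
    refine hSout _ hmem (fun h => hyA ?_) (Normal.conj_mem inferInstance y hy0 _)
    exact (mem_normalizer_iff.1 (D.le_normalizer g.2) y).2 h
  -- the abelian case inside `G0`
  obtain ⟨R0, hR0⟩ := CfsgLib.LS.sylow_inf_normal T G0
  have hR0mem : ∀ x : G0, x ∈ (R0 : Subgroup G0) ↔ (x : G) ∈ S ∧ (x : G) ∈ A := by
    intro x
    have h1 : x ∈ (R0 : Subgroup G0) ↔ (x : G) ∈ (T : Subgroup G) ⊓ G0 := by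
      rw [← hR0]
      exact ⟨fun h => ⟨x, h, rfl⟩, fun ⟨y, hy, hyx⟩ => (Subtype.ext hyx : y = x) ▸ hy⟩
    rw [h1, mem_inf, hTS]
    exact ⟨fun h => ⟨h.1, by_contra fun hc => hSout _ h.1 hc h.2⟩, fun h => ⟨h.1, x.2⟩⟩
  have hdata : CfsgLib.AbCent.Data R0 := by
    refine ⟨fun hcyc => hne ?_, fun hn => hns ?_, comm_of_sylow R0 fun t ht hto x y hx hy => ?_⟩
    · haveI := hcyc
      have hz0 : (⟨z, hSin z hzS hz⟩ : G0) ∈ (R0 : Subgroup G0) := (hR0mem _).2 ⟨hzS, hz⟩
      have hw0 : (⟨w, hSin w hwS hw⟩ : G0) ∈ (R0 : Subgroup G0) := (hR0mem _).2 ⟨hwS, hw⟩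
      letI := Fintype.ofFinite (R0 : Subgroup G0)
      by_contra hzw
      have hc := IsCyclic.card_pow_eq_one_le (α := (R0 : Subgroup G0)) two_pos
      set za : (R0 : Subgroup G0) := ⟨_, hz0⟩
      set wa : (R0 : Subgroup G0) := ⟨_, hw0⟩
      have hsub : ({1, za, wa} : Finset (R0 : Subgroup G0)) ⊆ Finset.univ.filter (fun v => v ^ 2 = 1) := by
        intro v hv
        refine Finset.mem_filter.2 ⟨Finset.mem_univ _, ?_⟩
        simp only [Finset.mem_insert, Finset.mem_singleton] at hv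
        rcases hv with rfl | rfl | rfl
        · exact one_pow 2
        · exact Subtype.ext (Subtype.ext (hzo ▸ pow_orderOf_eq_one z : z ^ 2 = 1))
        · exact Subtype.ext (Subtype.ext (hwo ▸ pow_orderOf_eq_one w : w ^ 2 = 1))
      have h3 : ({1, za, wa} : Finset (R0 : Subgroup G0)).card = 3 := Finset.card_eq_three.2
        ⟨1, za, wa, fun e => Invol.invol_ne_one hzo (congrArg (fun v : (R0 : Subgroup G0) => ((v : G0) : G)) e.symm),
          fun e => Invol.invol_ne_one hwo (congrArg (fun v : (R0 : Subgroup G0) => ((v : G0) : G)) e.symm),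
          fun e => hzw (congrArg (fun v : (R0 : Subgroup G0) => ((v : G0) : G)) e), rfl⟩
      exact absurd ((Finset.card_le_card hsub).trans hc) (by omega)
    · haveI := hn
      haveI : Group.IsSolvable G0 := isSolvable_of_pGroup_index (R0 : Subgroup G0) R0.2
        (Nat.not_even_iff_odd.1 fun h => R0.not_dvd_index h.two_dvd)
      haveI : Group.IsSolvable (G ⧸ G0) := by
        haveI := (IsPGroup.of_card (p := 2) (n := 1) (G := G ⧸ G0)
          (by rw [← index_eq_card, hG0, pow_one])).isNilpotent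
        infer_instance
      exact solvable_of_ker_le_range G0.subtype (QuotientGroup.mk' G0) (by simp [Subgroup.range_subtype])
    · obtain ⟨-, htA⟩ := (hR0mem t).1 ht
      have hmemA : ∀ u : G0, Commute u t → (u : G) ∈ A := fun u hu => by
        have h1 : (u : G) ∈ H := D.cent t htA (by rw [Subgroup.orderOf_coe, hto]) ▸
          mem_centralizer_singleton_iff.2 (congrArg Subtype.val hu.eq)
        exact by_contra fun h => hHout _ h1 h u.2
      exact Subtype.ext (D.comm _ (hmemA x hx) _ (hmemA y hy)).eq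
  obtain ⟨-, F, _, _, _, φ, hφ, hker, hodd⟩ := CfsgLib.AbCent.target _ G0 rfl R0 hdata
  have hsl : Nat.card φ.ker * Nat.card (Matrix.SpecialLinearGroup (Fin 2) F) = Nat.card G0 := by
    rw [← φ.ker.card_mul_index, Subgroup.index_ker, MonoidHom.range_eq_top.2 hφ, Subgroup.card_top]
  have h4 : 4 ∣ Nat.card (Matrix.SpecialLinearGroup (Fin 2) F) := by
    have h1 : Nat.card (A ⊓ S : Subgroup G) ∣ Nat.card G0 :=
      card_dvd_of_le fun x hx => hSin x hx.2 hx.1
    have h2 : 4 ∣ Nat.card (A ⊓ S : Subgroup G) := by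
      refine (IsKleinFour.card_four (G := closure ({z, w} : Set G))
        (self := Invol.isKleinFour_closure_pair hzo hwo hne (D.comm z hz w hw))).symm ▸ card_dvd_of_le ((closure_le _).2 ?_)
      rintro x (rfl | rfl)
      · exact ⟨hz, hzS⟩
      · exact ⟨hw, hwS⟩
    exact ((Nat.coprime_two_left.2 hodd).pow_left 2).dvd_of_dvd_mul_left (hsl.symm ▸ h2.trans h1)
  have hF := three_lt_card h4
  -- the Sylow subgroup is elementary abelian
  have hAsq : ∀ a ∈ S, a ∈ A → a ^ 2 = 1 := by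
    intro a ha haA
    by_contra hne2
    set a0 : G0 := ⟨a, hSin a ha haA⟩
    obtain ⟨k, hk⟩ : ∃ k : ℕ, orderOf a = 2 ^ k := by
      obtain ⟨k, hk⟩ := IsPGroup.iff_orderOf.1 hSp ⟨a, ha⟩
      exact ⟨k, by rwa [Subgroup.orderOf_mk] at hk⟩
    obtain ⟨k, rfl⟩ : ∃ j, k = j + 2 := ⟨k - 2, by
      rcases k with _ | _ | k
      · exact absurd (by rw [orderOf_eq_one_iff.1 (hk.trans (pow_zero 2)), one_pow]) hne2
      · exact absurd (by rw [← (hk.trans (pow_one 2)), pow_orderOf_eq_one]) hne2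
      · omega⟩
    set c := a0 ^ 2 ^ k
    have hc : φ c ^ 2 = 1 := sq_eq_one_of_pow_four _ (by
      rw [← map_pow, ← pow_mul, show 2 ^ k * 4 = 2 ^ (k + 2) by rw [pow_add]; norm_num, ← hk,
        ← Subgroup.orderOf_mk a (hSin a ha haA), pow_orderOf_eq_one, map_one])
    rw [← map_pow, ← MonoidHom.mem_ker] at hc
    have h1 : c ^ 2 = 1 := CfsgLib.AbCent.eq_one_of_sq (hodd.of_dvd_nat (Subgroup.orderOf_dvd_natCard _ hc)) (by
      rw [← pow_mul, ← pow_mul, show 2 ^ k * (2 * 2) = 2 ^ (k + 2) by rw [pow_add]; norm_num, ← hk,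
        ← Subgroup.orderOf_mk a (hSin a ha haA), pow_orderOf_eq_one])
    have h2 : a ^ (2 ^ k * 2) = 1 := by
      rw [← pow_mul] at h1
      exact congrArg Subtype.val h1
    have h3 := orderOf_dvd_of_pow_eq_one h2
    rw [hk, ← pow_succ, Nat.pow_dvd_pow_iff_le_right one_lt_two] at h3
    omega
  have hsq : ∀ x ∈ S, x ^ 2 = 1 := fun x hx => by
    by_cases hxA : x ∈ A
    · exact hAsq x hx hxA
    · rw [← D.invol x (hSH hx) hxA, pow_orderOf_eq_one]
  have hcomS : ∀ x ∈ S, ∀ y ∈ S, Commute x y := fun x hx y hy => by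
    have hi : ∀ v ∈ S, v⁻¹ = v := fun v hv => inv_eq_of_mul_eq_one_right (by rw [← sq, hsq v hv])
    have h1 := hi _ (mul_mem hx hy)
    rw [_root_.mul_inv_rev, hi x hx, hi y hy] at h1
    exact h1.symm
  haveI hTc : IsMulCommutative (T : Subgroup G) :=
    ⟨⟨fun x y => Subtype.ext (hcomS x (hTS.le x.2) y (hTS.le y.2)).eq⟩⟩
  letI : CommGroup (T : Subgroup G) := { (inferInstance : Group (T : Subgroup G)) with mul_comm := mul_comm' }
  -- an element outside, fixed by the normaliser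
  obtain ⟨b0, hb0T, hb0A, hb0fix⟩ : ∃ b0 ∈ (T : Subgroup G), b0 ∉ A ∧
      ∀ n ∈ normalizer ((T : Subgroup G) : Set G), n * b0 * n⁻¹ = b0 := by
    set N := normalizer ((T : Subgroup G) : Set G) with hN
    set T' := (T : Subgroup G).subgroupOf N with hT'
    letI := Fintype.ofFinite (N ⧸ T')
    let f : N ⧸ T' → (T : Subgroup G) := Quotient.lift
      (fun n : N => (⟨(n : G) * b * (n : G)⁻¹, (mem_normalizer_iff.1 n.2 b).1 (hTS ▸ hbS)⟩ : (T : Subgroup G)))
      fun m n hmn => Subtype.ext <| by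
        have h1 : (m : G)⁻¹ * n ∈ S := hTS ▸ mem_subgroupOf.1 (QuotientGroup.leftRel_apply.1 hmn)
        show (m : G) * b * (m : G)⁻¹ = (n : G) * b * (n : G)⁻¹
        calc (m : G) * b * (m : G)⁻¹ = m * (b * ((m : G)⁻¹ * n)) * (n : G)⁻¹ := by group
          _ = n * b * (n : G)⁻¹ := by rw [(hcomS b hbS _ h1).eq]; group
    refine ⟨((∏ q, f q : (T : Subgroup G)) : G), (∏ q, f q : (T : Subgroup G)).2, fun hA' => ?_, fun n hn => ?_⟩
    · set M := A.subgroupOf (T : Subgroup G) with hM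
      have hMidx : M.index = 2 := by
        show A.relIndex (T : Subgroup G) = 2
        rw [hTS, ← inf_relIndex_right]; exact hSidx
      have hq2 : Nat.card ((T : Subgroup G) ⧸ M) = 2 := by rw [← index_eq_card, hMidx]
      set π := QuotientGroup.mk' M
      set bT : (T : Subgroup G) := ⟨b, hTS ▸ hbS⟩
      have hπ : ∀ q, π (f q) = π bT := by
        rintro ⟨n⟩
        refine QuotientGroup.eq.2 ?_
        rw [Subgroup.mul_mem_iff_of_index_two hMidx, inv_mem_iff]
        exact iff_of_false (fun h => hfus (hSH hbS) hbA (n : G) (mem_subgroupOf.1 h))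
          (fun h => hbA (mem_subgroupOf.1 h))
      have h0 : π (∏ q, f q) = 1 := (QuotientGroup.eq_one_iff _).2 (mem_subgroupOf.2 hA')
      rw [map_prod, Finset.prod_congr rfl (fun q _ => hπ q), Finset.prod_const, Finset.card_univ] at h0
      have hoddN : Odd (Fintype.card (N ⧸ T')) := by
        rw [← Nat.card_eq_fintype_card, ← index_eq_card, ← Nat.not_even_iff_odd, even_iff_two_dvd]
        exact fun h => T.not_dvd_index (h.trans (by
          rw [← relIndex_mul_index (Subgroup.le_normalizer : (T : Subgroup G) ≤ N)]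
          exact Dvd.intro _ rfl))
      have h1 : π bT ^ 2 = 1 := (congrArg (π bT ^ ·) hq2.symm).trans pow_card_eq_one'
      obtain ⟨i, hi⟩ := hoddN
      rw [hi, pow_succ, pow_mul, h1, one_pow, one_mul] at h0
      exact hbA (mem_subgroupOf.1 ((QuotientGroup.eq_one_iff bT).1 h0))
    · have hcT : ∀ x : (T : Subgroup G), n * (x : G) * n⁻¹ ∈ (T : Subgroup G) := fun x =>
        (mem_normalizer_iff.1 hn x).1 x.2
      let c : (T : Subgroup G) →* (T : Subgroup G) :=
        { toFun := fun x => ⟨n * (x : G) * n⁻¹, hcT x⟩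
          map_one' := Subtype.ext (by simp)
          map_mul' := fun x y => Subtype.ext (by simp [mul_assoc]) }
      show ((c (∏ q, f q) : (T : Subgroup G)) : G) = _
      rw [map_prod]
      refine congrArg Subtype.val (Fintype.prod_equiv (MulAction.toPerm (⟨n, hn⟩ : N)) _ _ ?_)
      rintro ⟨m⟩
      refine Subtype.ext ?_
      show n * ((m : G) * b * (m : G)⁻¹) * n⁻¹ = (n * (m : G)) * b * (n * (m : G))⁻¹
      group
  have hb0S : b0 ∈ S := hTS.le hb0T
  have hb02 : orderOf b0 = 2 := D.invol b0 (hSH hb0S) hb0A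
  have hb0G : b0 ∉ G0 := hSout b0 hb0S hb0A
  have hz0 : Invol.IsZCentral b0 := Invol.zstar_of_weakly_closed T hb02 fun g hg => by
    obtain ⟨n, hn, he⟩ := Sylow.conj_eq_normalizer_conj_of_mem T b0 g⁻¹ hb0T (by rwa [inv_inv])
    rw [inv_inv] at he
    rw [he]
    simpa using hb0fix n⁻¹ (inv_mem hn)
  -- the odd core lies in the kernel
  set K := φ.ker.map G0.subtype with hKdef
  have hKcard : Nat.card K = Nat.card φ.ker :=
    (Nat.card_congr (equivMapOfInjective _ _ G0.subtype_injective).toEquiv).symm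
  haveI : IsSimpleGroup (Matrix.ProjectiveSpecialLinearGroup (Fin 2) F) :=
    (CfsgLib.Perm.Dickson.psl_simple_noncomm (by rw [Nat.card_eq_fintype_card]; omega)).1
  haveI : IsSimpleGroup (Matrix.SpecialLinearGroup (Fin 2) F) := (slEquivPsl F).isSimpleGroup
  have hOK : Cfsg.pPrimeCore 2 G ≤ K := by
    intro x hx
    have hodd' : ¬ 2 ∣ Nat.card (Cfsg.pPrimeCore 2 G) := CfsgLib.Coprime.pPrimeCore_not_dvd Nat.prime_two
    have hx0 : ∀ y ∈ Cfsg.pPrimeCore 2 G, y ∈ G0 := fun y hy => CfsgLib.AbCent.mem_of_sq_mem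
      ((Nat.not_even_iff_odd.1 fun h => hodd' h.two_dvd).of_dvd_nat (Subgroup.orderOf_dvd_natCard _ hy))
      (Subgroup.sq_mem_of_index_two hG0 y)
    set O := (Cfsg.pPrimeCore 2 G).subgroupOf G0
    haveI : (O.map φ).Normal := Subgroup.Normal.map inferInstance _ hφ
    rcases ‹(O.map φ).Normal›.eq_bot_or_eq_top with h | h
    · refine ⟨⟨x, hx0 x hx⟩, MonoidHom.mem_ker.2 ?_, rfl⟩
      have h1 : φ ⟨x, hx0 x hx⟩ ∈ O.map φ := ⟨_, mem_subgroupOf.2 hx, rfl⟩
      rwa [h, mem_bot] at h1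
    · exfalso
      have h1 := Subgroup.card_map_dvd (f := φ) O
      rw [h, card_top] at h1
      refine hodd' ((dvd_trans (by norm_num) h4 : (2 : ℕ) ∣ _).trans (h1.trans (dvd_of_eq ?_)))
      exact Nat.card_congr (subgroupOfEquivOfLe hx0).toEquiv
  -- the kernel is normal
  haveI : K.Normal := ⟨fun x hx g => by
    obtain ⟨y, hy, rfl⟩ := hx
    set σ : MulAut G0 := MulAut.conjNormal g
    have h1 : σ y ∈ center G0 := by
      refine mem_center_iff.2 fun v => ?_
      have := congrArg σ (mem_center_iff.1 (hker hy) (σ.symm v))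
      simpa using this
    have h2 : φ (σ y) ∈ center (Matrix.SpecialLinearGroup (Fin 2) F) := mem_center_iff.2 fun s => by
      obtain ⟨v, rfl⟩ := hφ s
      rw [← map_mul, ← map_mul, mem_center_iff.1 h1 v]
    rw [CfsgLib.Lie.ShortPres.center_eq_bot_of_two (CharTwo.two_eq_zero (R := F)), mem_bot] at h2
    exact ⟨σ y, MonoidHom.mem_ker.2 h2, MulAut.conjNormal_apply _ _⟩⟩
  have hbz : ∀ q : G ⧸ K, q * QuotientGroup.mk' K b0 = QuotientGroup.mk' K b0 * q := by
    intro q
    obtain ⟨g, rfl⟩ := QuotientGroup.mk'_surjective K q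
    have h1 : QuotientGroup.mk' K (b0 * g * b0⁻¹ * g⁻¹) = 1 := (QuotientGroup.eq_one_iff _).2 (hOK (hz0 g))
    rw [map_mul, map_mul, map_mul, map_inv, map_inv, mul_inv_eq_one, mul_inv_eq_iff_eq_mul] at h1
    exact h1.symm
  set π := QuotientGroup.mk' K with hπ
  set N := (zpowers (π b0)).comap π with hNdef
  haveI : N.Normal := Subgroup.Normal.comap ⟨fun x hx q => by
    obtain ⟨i, rfl⟩ := mem_zpowers_iff.1 hx
    rw [((show Commute q (π b0) from hbz q).zpow_right i).eq, mul_inv_cancel_right]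
    exact zpow_mem (mem_zpowers _) i⟩ π
  have hKG0 : K ≤ G0 := map_subtype_le _
  have hb0o : orderOf (π b0) = 2 := orderOf_eq_prime (by rw [← map_pow, ← hb02, pow_orderOf_eq_one, map_one])
    fun h => hb0G (hKG0 ((QuotientGroup.eq_one_iff b0).1 h))
  have hNcard : Nat.card N = 2 * Nat.card φ.ker := by
    rw [hNdef, card_comap_surjective π (QuotientGroup.mk'_surjective K), Nat.card_zpowers, hb0o,
      QuotientGroup.ker_mk', hKcard, mul_comm]
  refine ⟨N, inferInstance, Or.inr ⟨_, hodd, hNcard⟩, F, inferInstance, inferInstance, hF, Or.inl ⟨?_⟩⟩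
  let ψ : G0 →* G ⧸ N := (QuotientGroup.mk' N).comp G0.subtype
  have hψs : Function.Surjective ψ := by
    intro q
    obtain ⟨g, rfl⟩ := QuotientGroup.mk'_surjective N q
    by_cases hg : g ∈ G0
    · exact ⟨⟨g, hg⟩, rfl⟩
    · refine ⟨⟨g * b0, (Subgroup.mul_mem_iff_of_index_two hG0).2 (iff_of_false hg hb0G)⟩, ?_⟩
      refine QuotientGroup.eq.2 ?_
      show (g * b0)⁻¹ * g ∈ N
      rw [show (g * b0)⁻¹ * g = b0⁻¹ by group]
      exact inv_mem (mem_zpowers (π b0))
  have hψk : ψ.ker = φ.ker := by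
    ext x
    rw [MonoidHom.mem_ker]
    show QuotientGroup.mk' N (x : G) = 1 ↔ _
    rw [QuotientGroup.mk'_apply, QuotientGroup.eq_one_iff]
    constructor
    · intro hx
      obtain ⟨i, hi⟩ := mem_zpowers_iff.1 hx
      rw [← zpow_mod_orderOf, hb0o] at hi
      rcases Int.emod_two_eq_zero_or_one i with h | h <;> push_cast at hi <;> rw [h] at hi
      · rw [zpow_zero, eq_comm] at hi
        obtain ⟨y, hy, hyx⟩ := (QuotientGroup.eq_one_iff (x : G)).1 hi
        exact (Subtype.ext hyx : y = x) ▸ hy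
      · exfalso
        rw [zpow_one] at hi
        have h1 : b0⁻¹ * (x : G) ∈ K := QuotientGroup.eq.1 hi
        exact hb0G (inv_mem_iff.1 ((mul_mem_cancel_right x.2).1 (hKG0 h1)))
    · intro hx
      have h1 : π (x : G) = 1 := (QuotientGroup.eq_one_iff (x : G)).2 (mem_map_of_mem G0.subtype hx)
      exact mem_comap.2 (h1.symm ▸ one_mem _)
  exact (((QuotientGroup.quotientKerEquivOfSurjective ψ hψs).symm.trans
    (QuotientGroup.quotientMulEquivOfEq hψk)).trans (QuotientGroup.quotientKerEquivOfSurjective φ hφ)).trans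
      (slEquivPsl F)

end Data

end CfsgLib.GW.DGroup
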